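import Cfsg.Agent.Lib.Helper21.TOO.LDefs
import Cfsg.Agent.Lib.helper6.TSSIEG

/-!
# Project TOO, row LG1 (`sieg_mem_Om`): Siegel elements lie in `Ω = [O,O]`; the torus elements `toolg1_delta`.
-/

set_option autoImplicit false
set_option linter.unusedSectionVars false
set_option linter.unusedVariables false

namespace Cfsg.Agent.Lib.Helper28.TOO

open Matrix
open scoped Kronecker
open Cfsg.Agent.Lib.helper7.TP Cfsg.Agent.Lib.Helper21.TS

variable {ι : Type*} [Fintype ι] [DecidableEq ι] {F : Type*} [Field F]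

/-- the torus element `δ_λ` of a hyperbolic pair `(w, w')`: `w ↦ λ w`, `w' ↦ λ⁻¹ w'`, identity on `⟨w,w'⟩^⊥`. -/
def toolg1_delta (J : Matrix ι ι F) (w w' : ι → F) (l : F) : Matrix ι ι F :=
  1 + (l - 1) • opm J w w' + (l⁻¹ - 1) • opm J w' w

theorem toolg1_delta_mulVec (J : Matrix ι ι F) (w w' : ι → F) (l : F) (x : ι → F) :
    toolg1_delta J w w' l *ᵥ x = x + ((l - 1) * bf J w' x) • w + ((l⁻¹ - 1) * bf J w x) • w' := by
  rw [toolg1_delta, Matrix.add_mulVec, Matrix.add_mulVec, Matrix.one_mulVec, Matrix.smul_mulVec,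
    Matrix.smul_mulVec, opm_mulVec, opm_mulVec, smul_smul, smul_smul]

theorem toolg1_delta_mul {J : Matrix ι ι F} (hJ : Jᵀ = J) {w w' : ι → F} (hw : bf J w w = 0)
    (hw' : bf J w' w' = 0) (hww' : bf J w w' = 1) {l m : F} (hl : l ≠ 0) (hm : m ≠ 0) :
    toolg1_delta J w w' l * toolg1_delta J w w' m = toolg1_delta J w w' (l * m) := by
  rw [Matrix.ext_iff_mulVec]
  intro x
  have hw'w : bf J w' w = 1 := by rw [bf_symm hJ]; exact hww'
  rw [← Matrix.mulVec_mulVec, toolg1_delta_mulVec J w w' m x, toolg1_delta_mulVec,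
    toolg1_delta_mulVec]
  simp only [bf_add_right, bf_smul_right, hw, hw', hww', hw'w]
  funext i
  simp only [Pi.add_apply, Pi.smul_apply, smul_eq_mul]
  field_simp
  ring

theorem toolg1_delta_one (J : Matrix ι ι F) (w w' : ι → F) : toolg1_delta J w w' 1 = 1 := by
  simp [toolg1_delta]

theorem toolg1_delta_iso {J : Matrix ι ι F} (hJ : Jᵀ = J) {w w' : ι → F} (hw : bf J w w = 0)
    (hw' : bf J w' w' = 0) (hww' : bf J w w' = 1) {l : F} (hl : l ≠ 0) (x y : ι → F) :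
    bf J (toolg1_delta J w w' l *ᵥ x) (toolg1_delta J w w' l *ᵥ y) = bf J x y := by
  have hw'w : bf J w' w = 1 := by rw [bf_symm hJ]; exact hww'
  have hxw : bf J x w = bf J w x := bf_symm hJ x w
  have hxw' : bf J x w' = bf J w' x := bf_symm hJ x w'
  rw [toolg1_delta_mulVec, toolg1_delta_mulVec]
  simp only [bf_add_left, bf_smul_left, bf_add_right, bf_smul_right, hw, hw', hww', hw'w, hxw, hxw']
  field_simp
  ring

/-- `δ_λ` as an element of `GL`. -/
noncomputable def toolg1_deltaG {J : Matrix ι ι F} (hJ : Jᵀ = J) {w w' : ι → F} (hw : bf J w w = 0)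
    (hw' : bf J w' w' = 0) (hww' : bf J w w' = 1) {l : F} (hl : l ≠ 0) :
    Matrix.GeneralLinearGroup ι F :=
  ⟨toolg1_delta J w w' l, toolg1_delta J w w' l⁻¹,
    by rw [toolg1_delta_mul hJ hw hw' hww' hl (inv_ne_zero hl), mul_inv_cancel₀ hl, toolg1_delta_one],
    by rw [toolg1_delta_mul hJ hw hw' hww' (inv_ne_zero hl) hl, inv_mul_cancel₀ hl, toolg1_delta_one]⟩

theorem toolg1_deltaG_mem {J : Matrix ι ι F} (hJ : Jᵀ = J) {w w' : ι → F} (hw : bf J w w = 0)
    (hw' : bf J w' w' = 0) (hww' : bf J w w' = 1) {l : F} (hl : l ≠ 0) :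
    toolg1_deltaG hJ hw hw' hww' hl ∈ Iso J := by
  rw [mem_Iso_iff_bf]
  intro x y
  exact toolg1_delta_iso hJ hw hw' hww' hl x y

/-- a singular partner. -/
theorem toolg1_partner {J : Matrix ι ι F} (hJ : Jᵀ = J) (two : (2 : F) ≠ 0) (hdet : J.det ≠ 0)
    {w : ι → F} (hw0 : w ≠ 0) (hw : bf J w w = 0) :
    ∃ w' : ι → F, bf J w' w' = 0 ∧ bf J w w' = 1 := by
  obtain ⟨y, hy⟩ := bf_nondeg hdet hw0
  obtain ⟨y', h1⟩ : ∃ y' : ι → F, bf J w y' = 1 :=
    ⟨(bf J w y)⁻¹ • y, by rw [bf_smul_right, inv_mul_cancel₀ hy]⟩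
  have h1' : bf J y' w = 1 := by rw [bf_symm hJ]; exact h1
  refine ⟨y' - (bf J y' y' / 2) • w, ?_, ?_⟩
  · simp only [bf_sub_left, bf_sub_right, bf_smul_left, bf_smul_right, hw, h1, h1']
    field_simp
    ring
  · rw [bf_sub_right, bf_smul_right, hw, h1, mul_zero, sub_zero]

/-- the Siegel element as an element of `GL`. -/
noncomputable def toolg1_siegG {J : Matrix ι ι F} (hJ : Jᵀ = J) (two : (2 : F) ≠ 0) {w z : ι → F}
    (hw : bf J w w = 0) (hz : bf J w z = 0) : Matrix.GeneralLinearGroup ι F :=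
  ⟨sieg J w z, sieg J w (-z),
    by
      have h1 : bf J w (-z) = 0 := by rw [bf_neg_right, hz, neg_zero]
      rw [sieg_mul hJ two hw hz h1, add_neg_cancel, tssieg_zero],
    by
      have h1 : bf J w (-z) = 0 := by rw [bf_neg_right, hz, neg_zero]
      rw [sieg_mul hJ two hw h1 hz, neg_add_cancel, tssieg_zero]⟩

theorem toolg1_siegG_mem {J : Matrix ι ι F} (hJ : Jᵀ = J) (two : (2 : F) ≠ 0) {w z : ι → F}
    (hw : bf J w w = 0) (hz : bf J w z = 0) : toolg1_siegG hJ two hw hz ∈ Iso J := by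
  rw [mem_Iso_iff_bf]
  intro x y
  exact tssieg_iso hJ two hw hz x y

/-- `δ_λ ρ_{w,z} = ρ_{w,λ z} δ_λ`. -/
theorem toolg1_delta_sieg {J : Matrix ι ι F} (hJ : Jᵀ = J) (two : (2 : F) ≠ 0) {w w' z : ι → F}
    (hw : bf J w w = 0) (hw' : bf J w' w' = 0) (hww' : bf J w w' = 1) (hz : bf J w z = 0) {l : F}
    (hl : l ≠ 0) :
    toolg1_delta J w w' l * sieg J w z = sieg J w (l • z) * toolg1_delta J w w' l := by
  rw [Matrix.ext_iff_mulVec]
  intro x
  have hw'w : bf J w' w = 1 := by rw [bf_symm hJ]; exact hww'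
  have hzw : bf J z w = 0 := by rw [bf_symm hJ]; exact hz
  have hw'z : bf J w' z = bf J z w' := bf_symm hJ w' z
  rw [← Matrix.mulVec_mulVec, ← Matrix.mulVec_mulVec, sieg_mulVec J w z x,
    toolg1_delta_mulVec J w w' l x, sieg_mulVec, toolg1_delta_mulVec]
  simp only [bf_add_right, bf_sub_right, bf_smul_right, bf_smul_left, hw, hw', hww', hw'w, hz, hzw,
    hw'z]
  funext i
  simp only [Pi.add_apply, Pi.sub_apply, Pi.smul_apply, smul_eq_mul]
  field_simp
  ring

/-- LG1. Siegel elements lie in `Ω = [O,O]`. -/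
theorem sieg_mem_Om {J : Matrix ι ι F} (hJ : Jᵀ = J) (two : (2 : F) ≠ 0) (hdet : J.det ≠ 0)
    {w z : ι → F} (hw : bf J w w = 0) (hz : bf J w z = 0) :
    ∃ β ∈ Om J, (β : Matrix ι ι F) = sieg J w z := by
  by_cases hw0 : w = 0
  · refine ⟨1, Subgroup.one_mem _, ?_⟩
    subst hw0
    rw [Units.val_one, Matrix.ext_iff_mulVec]
    intro x
    rw [sieg_mulVec, Matrix.one_mulVec, bf_zero_left, smul_zero, zero_smul, mul_zero, zero_smul,
      add_zero, sub_zero, sub_zero]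
  obtain ⟨w', hw', hww'⟩ := toolg1_partner hJ two hdet hw0 hw
  set D := toolg1_deltaG hJ hw hw' hww' two with hD
  set R := toolg1_siegG hJ two hw hz with hR
  have hDm : D ∈ Iso J := toolg1_deltaG_mem hJ hw hw' hww' two
  have hRm : R ∈ Iso J := toolg1_siegG_mem hJ two hw hz
  have hz2 : bf J w ((2 : F) • z) = 0 := by rw [bf_smul_right, hz, mul_zero]
  -- D * R = R2 * D, with R2 = sieg J w (2 z) = R * R
  have hRR : (R : Matrix ι ι F) * (R : Matrix ι ι F) = sieg J w ((2 : F) • z) := by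
    show sieg J w z * sieg J w z = _
    rw [sieg_mul hJ two hw hz hz, two_smul]
  have hcomm : D * R = R * R * D := by
    apply Units.ext
    rw [Units.val_mul, Units.val_mul, Units.val_mul, hRR]
    exact toolg1_delta_sieg hJ two hw hw' hww' hz two
  have hβ : D * R * D⁻¹ * R⁻¹ = R := by
    rw [hcomm]
    group
  refine ⟨D * R * D⁻¹ * R⁻¹, ?_, by rw [hβ]; rfl⟩
  rw [Om, Subgroup.mem_map]
  have hc := Subgroup.commutator_mem_commutator (H₁ := (⊤ : Subgroup (Iso J))) (H₂ := ⊤)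
    (Subgroup.mem_top (⟨D, hDm⟩ : Iso J)) (Subgroup.mem_top (⟨R, hRm⟩ : Iso J))
  rw [← commutator_def] at hc
  refine ⟨_, hc, ?_⟩
  rw [commutatorElement_def]
  rfl

end Cfsg.Agent.Lib.Helper28.TOO
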