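import Cfsg.Agent.Lib.Helper21.TOO.Defs
import Cfsg.Agent.Lib.helper7.TP.Main
import Cfsg.Agent.Lib.Helper28.Transport
import Cfsg.Agent.Lib.Helper28.OTrans
import Cfsg.Agent.Lib.Helper28.OTens
import Cfsg.Agent.Lib.Helper16.SpinG2

/-!
# Project TOO (S5681, S5709): transport of the standard model to the frozen statements (port of `helper7/TO/Transfer.lean`)

`too_of_std` : for a quadratic form `Q` on `F^ι` (`2 ≠ 0`) whose polar form is similar to `f₁ ⊗ f₂` (`f₁`, `f₂` symmetric),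
maximality of `K0 ⊓ Ω(C.q)` in `Ω(C.q)` for the model context `C` gives the frozen conclusion.
`s5681_of_std`, `s5709_of_std` : the two frozen statements from maximality in every context.
-/

set_option autoImplicit false
set_option linter.unusedVariables false

namespace Cfsg.Agent.Lib.Helper21.TOO

open Matrix
open scoped Kronecker
open Cfsg.Agent.Lib.helper7.TP

theorem too_mem_iso_iff {ι : Type} [Fintype ι] [DecidableEq ι] {F : Type*} [Field F] (Q : (ι → F) → F)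
    (g : Matrix.GeneralLinearGroup ι F) :
    g ∈ Cfsg.isometryGroup F Q ↔ ∀ x, Q ((g : Matrix ι ι F) *ᵥ x) = Q x := by
  unfold Cfsg.isometryGroup Cfsg.preserving
  constructor
  · intro h x
    exact h x x
  · intro h x _
    exact h x

theorem too_map_iso_conj {ι : Type} [Fintype ι] [DecidableEq ι] {F : Type*} [Field F] (Q : (ι → F) → F)
    (P : Matrix.GeneralLinearGroup ι F) {ζ : F} (hζ : ζ ≠ 0) :
    (Cfsg.isometryGroup F (fun x => ζ * Q ((P : Matrix ι ι F) *ᵥ x))).map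
      (MulAut.conj P).toMonoidHom = Cfsg.isometryGroup F Q := by
  have hPP : ∀ y : ι → F, (P : Matrix ι ι F) *ᵥ (((P⁻¹ : Matrix.GeneralLinearGroup ι F) : Matrix ι ι F) *ᵥ y) = y := by
    intro y
    rw [Matrix.mulVec_mulVec, ← Units.val_mul, mul_inv_cancel, Units.val_one, Matrix.one_mulVec]
  ext g
  rw [Subgroup.mem_map_equiv, too_mem_iso_iff, too_mem_iso_iff, MulAut.conj_symm_apply]
  have hval : ∀ x : ι → F, (P : Matrix ι ι F) *ᵥ (((P⁻¹ * g * P : Matrix.GeneralLinearGroup ι F) : Matrix ι ι F) *ᵥ x)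
      = (g : Matrix ι ι F) *ᵥ ((P : Matrix ι ι F) *ᵥ x) := by
    intro x
    rw [Units.val_mul, Units.val_mul, ← Matrix.mulVec_mulVec, ← Matrix.mulVec_mulVec, hPP]
  constructor
  · intro h y
    have h1 := h (((P⁻¹ : Matrix.GeneralLinearGroup ι F) : Matrix ι ι F) *ᵥ y)
    simp only [hval, hPP] at h1
    exact mul_left_cancel₀ hζ h1
  · intro h x
    simp only [hval]
    rw [h]

theorem too_map_omega_conj {ι : Type} [Fintype ι] [DecidableEq ι] {F : Type*} [Field F] (Q : (ι → F) → F)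
    (P : Matrix.GeneralLinearGroup ι F) {ζ : F} (hζ : ζ ≠ 0) :
    (Cfsg.Geo.omegaGL (fun x => ζ * Q ((P : Matrix ι ι F) *ᵥ x))).map
      (MulAut.conj P).toMonoidHom = Cfsg.Geo.omegaGL Q := by
  rw [Cfsg.Agent.Lib.Helper28.OTrans.omegaGL_eq, Cfsg.Agent.Lib.Helper28.OTrans.omegaGL_eq,
    Subgroup.map_commutator, too_map_iso_conj Q P hζ]

/-- the general transfer. -/
theorem too_of_std {ι : Type} [Fintype ι] [DecidableEq ι] {F : Type*} [Field F]
    (Q : (ι → F) → F) (hQs : ∀ (k : F) (v : ι → F), Q (k • v) = k ^ 2 * Q v)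
    (hQb : Cfsg.Geo.IsBilinearForm (QuadraticMap.polar Q)) (two : (2 : F) ≠ 0)
    (n₁ n₂ : ℕ) (e : ι ≃ Fin n₁ × Fin n₂) (P : Matrix.GeneralLinearGroup ι F)
    (f₁ : (Fin n₁ → F) → (Fin n₁ → F) → F) (f₂ : (Fin n₂ → F) → (Fin n₂ → F) → F)
    (hf₁ : Cfsg.Geo.IsSymmetricForm f₁) (hf₂ : Cfsg.Geo.IsSymmetricForm f₂)
    (hT : Cfsg.Geo.IsTensorFormStructure id (QuadraticMap.polar Q) f₁ f₂ e P)
    (hstd : ∀ C : Ctx n₁ n₂ F, C.f₁ = f₁ → C.f₂ = f₂ →
      (∀ U : Submodule F (Fin n₁ × Fin n₂ → F), (∀ x ∈ U, C.q x = 0) →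
        ∃ U' : Submodule F (ι → F), (∀ x ∈ U', Q x = 0) ∧ Module.finrank F U' = Module.finrank F U) →
      Cfsg.Geo.IsMaximalIn (Cfsg.Geo.omegaGL C.q) (K0 n₁ n₂ F ⊓ Cfsg.Geo.omegaGL C.q)) :
    Cfsg.Geo.IsMaximalIn (Cfsg.Geo.omegaGL Q)
      (Cfsg.Geo.tensorProductSubgroup n₁ n₂ e P ⊓ Cfsg.Geo.omegaGL Q) := by
  classical
  obtain ⟨c, hc, hT⟩ := hT
  have hLadd : ∀ x y : Fin n₁ × Fin n₂ → F,
      (P : Matrix ι ι F) *ᵥ ((x + y) ∘ e) =
        (P : Matrix ι ι F) *ᵥ (x ∘ e) + (P : Matrix ι ι F) *ᵥ (y ∘ e) := by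
    intro x y
    rw [← Matrix.mulVec_add]
    rfl
  have hLsmul : ∀ (k : F) (x : Fin n₁ × Fin n₂ → F),
      (P : Matrix ι ι F) *ᵥ ((k • x) ∘ e) = k • ((P : Matrix ι ι F) *ᵥ (x ∘ e)) := by
    intro k x
    rw [← Matrix.mulVec_smul]
    rfl
  let C : Ctx n₁ n₂ F :=
    { f₁ := f₁
      f₂ := f₂
      f := fun x y => c⁻¹ * QuadraticMap.polar Q ((P : Matrix ι ι F) *ᵥ (x ∘ e))
        ((P : Matrix ι ι F) *ᵥ (y ∘ e))
      q := fun x => c⁻¹ * Q ((P : Matrix ι ι F) *ᵥ (x ∘ e))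
      two := two
      hf₁ := hf₁
      hf₂ := hf₂
      hf :=
        { add_left := fun x y v => by
            show c⁻¹ * _ = c⁻¹ * _ + c⁻¹ * _
            rw [hLadd, hQb.add_left, mul_add]
          smul_left := fun k x v => by
            show c⁻¹ * _ = k * (c⁻¹ * _)
            rw [hLsmul, hQb.smul_left]
            ring
          add_right := fun v x y => by
            show c⁻¹ * _ = c⁻¹ * _ + c⁻¹ * _
            rw [hLadd, hQb.add_right, mul_add]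
          smul_right := fun k v x => by
            show c⁻¹ * _ = k * (c⁻¹ * _)
            rw [hLsmul, hQb.smul_right]
            ring }
      f_ten := fun u w u' w' => by
        show c⁻¹ * _ = _
        rw [hT]
        have h1 := Cfsg.Agent.Lib.Helper28.OTens.pt_form (Cfsg.Geo.gramMatrix f₁)
          (Cfsg.Geo.gramMatrix f₂) u u' w w'
        rw [← Cfsg.Agent.Lib.Helper28.OTens.bil_gram hf₁.bilinear,
          ← Cfsg.Agent.Lib.Helper28.OTens.bil_gram hf₂.bilinear] at h1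
        have h2 : Cfsg.Geo.formOfGram id (Cfsg.Geo.gramMatrix f₁ ⊗ₖ Cfsg.Geo.gramMatrix f₂)
            (ten u w) (ten u' w') = f₁ u u' * f₂ w w' := h1
        rw [h2, ← mul_assoc, inv_mul_cancel₀ hc, one_mul]
      q_smul := fun k x => by
        show c⁻¹ * _ = k * k * (c⁻¹ * _)
        rw [hLsmul, hQs]
        ring
      q_add := fun x y => by
        show c⁻¹ * _ = c⁻¹ * _ + c⁻¹ * _ + c⁻¹ * _
        rw [hLadd, QuadraticMap.polar]
        ring }
  -- totally singular subspaces go over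
  have hts : ∀ U : Submodule F (Fin n₁ × Fin n₂ → F), (∀ x ∈ U, C.q x = 0) →
      ∃ U' : Submodule F (ι → F), (∀ x ∈ U', Q x = 0) ∧ Module.finrank F U' = Module.finrank F U := by
    intro U hU
    let L : (Fin n₁ × Fin n₂ → F) →ₗ[F] (ι → F) :=
      (Matrix.mulVecLin (P : Matrix ι ι F)).comp (LinearMap.funLeft F F e)
    have hL : ∀ x, L x = (P : Matrix ι ι F) *ᵥ (x ∘ e) := fun x => rfl
    have hLinj : Function.Injective L := by
      intro x y hxy
      rw [hL, hL] at hxy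
      have h1 : x ∘ e = y ∘ e := by
        have h2 := congrArg (fun v => ((P⁻¹ : Matrix.GeneralLinearGroup ι F) : Matrix ι ι F) *ᵥ v) hxy
        simp only [Matrix.mulVec_mulVec, ← Units.val_mul, inv_mul_cancel, Units.val_one,
          Matrix.one_mulVec] at h2
        exact h2
      funext p
      have := congrFun h1 (e.symm p)
      simpa using this
    refine ⟨U.map L, ?_, ?_⟩
    · rintro _ ⟨x, hx, rfl⟩
      have h1 : c⁻¹ * Q ((P : Matrix ι ι F) *ᵥ (x ∘ e)) = 0 := hU x hx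
      rcases mul_eq_zero.mp h1 with h | h
      · exact absurd h (inv_ne_zero hc)
      · rw [hL]; exact h
    · exact (LinearEquiv.finrank_eq (Submodule.equivMapOfInjective L hLinj U)).symm
  have hstd' := hstd C rfl rfl hts
  have hmap : (Cfsg.Geo.omegaGL C.q).map (Cfsg.Agent.Lib.Helper28.Transport.tmap e.symm P) =
      Cfsg.Geo.omegaGL Q := by
    unfold Cfsg.Agent.Lib.Helper28.Transport.tmap
    rw [← Subgroup.map_map]
    have h1 := Cfsg.Agent.Lib.Helper28.OTrans.map_omegaGL (F := F) e.symm C.q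
    have h1' : (Cfsg.Geo.omegaGL C.q).map (Cfsg.Geo.glReindex e.symm).toMonoidHom =
        Cfsg.Geo.omegaGL (fun x : ι → F => C.q (x ∘ e.symm)) := h1
    rw [h1']
    have h2 : (fun x : ι → F => C.q (x ∘ e.symm)) =
        fun x : ι → F => c⁻¹ * Q ((P : Matrix ι ι F) *ᵥ x) := by
      funext x
      show c⁻¹ * Q ((P : Matrix ι ι F) *ᵥ ((x ∘ e.symm) ∘ e)) = _
      have : (x ∘ e.symm) ∘ e = x := by
        funext i
        simp
      rw [this]
    rw [h2]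
    exact too_map_omega_conj Q P (inv_ne_zero hc)
  have hinj := Cfsg.Agent.Lib.Helper28.Transport.tmap_injective (F := F) e.symm P
  rw [Cfsg.Agent.Lib.Helper28.Transport.tensor_eq_map]
  apply isMaximalIn_map (Cfsg.Agent.Lib.Helper28.Transport.tmap e.symm P) hinj
    (Cfsg.Geo.kroneckerSubgroup n₁ n₂ F) (Cfsg.Geo.omegaGL C.q) (Cfsg.Geo.omegaGL Q)
  · intro g
    rw [← hmap]
    exact (Subgroup.mem_map_iff_mem hinj).symm
  · intro x _
    refine ⟨(Cfsg.Geo.glReindex e.symm).symm ((MulAut.conj P).symm x), ?_⟩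
    change (MulAut.conj P) ((Cfsg.Geo.glReindex e.symm) ((Cfsg.Geo.glReindex e.symm).symm
      ((MulAut.conj P).symm x))) = x
    rw [MulEquiv.apply_symm_apply, MulEquiv.apply_symm_apply]
  · exact hstd'

/-- `|F|` odd gives `2 ≠ 0`. -/
theorem too_two_ne_zero {F : Type*} [Field F] [Fintype F] (hodd : Odd (Fintype.card F)) : (2 : F) ≠ 0 := by
  intro h2
  have h3 : ringChar F = 2 := by
    have hdvd : ringChar F ∣ 2 := by
      have : ((2 : ℕ) : F) = 0 := by exact_mod_cast h2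
      exact (CharP.cast_eq_zero_iff F (ringChar F) 2).mp this
    rcases (Nat.dvd_prime Nat.prime_two).mp hdvd with h | h
    · exact absurd h (CharP.ringChar_ne_one)
    · exact h
  have h4 := FiniteField.even_card_iff_char_two.mp h3
  obtain ⟨k, hk⟩ := hodd
  omega

/-- a Mathlib quadratic form satisfies the two structural hypotheses of `too_of_std`. -/
theorem too_quadForm_props {ι : Type} [Fintype ι] {F : Type*} [Field F] (Qf : QuadraticForm F (ι → F)) :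
    (∀ (k : F) (v : ι → F), Qf (k • v) = k ^ 2 * Qf v) ∧
      Cfsg.Geo.IsBilinearForm (QuadraticMap.polar ⇑Qf) := by
  refine ⟨fun k v => ?_, ⟨?_, ?_, ?_, ?_⟩⟩
  · rw [QuadraticMap.map_smul, smul_eq_mul, pow_two]
  · intro x y v
    exact QuadraticMap.polar_add_left Qf x y v
  · intro c x v
    rw [QuadraticMap.polar_smul_left, smul_eq_mul]
  · intro v x y
    exact QuadraticMap.polar_add_right Qf v x y
  · intro c v x
    rw [QuadraticMap.polar_smul_right, smul_eq_mul]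

/-- the frozen statement S5681 from maximality in every context. -/
theorem s5681_of_std {F : Type*} [Field F] [Fintype F] (hodd : Odd (Fintype.card F)) (m : ℕ) (hm : 6 ≤ m)
    (n₁ n₂ : ℕ) (h1 : 3 ≤ n₁) (h12 : n₁ < n₂) (hex : ¬ (Fintype.card F = 3 ∧ n₁ = 3))
    (e : (Unit ⊕ (Fin m ⊕ Fin m)) ≃ Fin n₁ × Fin n₂)
    (P : Matrix.GeneralLinearGroup (Unit ⊕ (Fin m ⊕ Fin m)) F)
    (f₁ : (Fin n₁ → F) → (Fin n₁ → F) → F) (f₂ : (Fin n₂ → F) → (Fin n₂ → F) → F)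
    (hf₁ : Cfsg.Geo.IsSymmetricForm f₁) (hf₂ : Cfsg.Geo.IsSymmetricForm f₂)
    (hT : Cfsg.Geo.IsTensorFormStructure id (QuadraticMap.polar (Cfsg.quadFormOdd m F)) f₁ f₂ e P)
    (hstd : ∀ C : Ctx n₁ n₂ F, 3 ≤ n₁ → n₁ < n₂ → Odd n₁ → Odd n₂ → 13 ≤ n₁ * n₂ →
      ¬ (Fintype.card F = 3 ∧ n₁ = 3) →
      Cfsg.Geo.IsMaximalIn (Cfsg.Geo.omegaGL C.q) (K0 n₁ n₂ F ⊓ Cfsg.Geo.omegaGL C.q)) :
    Cfsg.Geo.IsMaximalIn (Cfsg.Geo.omegaGL (Cfsg.quadFormOdd m F))
      (Cfsg.Geo.tensorProductSubgroup n₁ n₂ e P ⊓ Cfsg.Geo.omegaGL (Cfsg.quadFormOdd m F)) := by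
  have hmul : n₁ * n₂ = 2 * m + 1 := by
    have := Fintype.card_congr e
    simp only [Fintype.card_sum, Fintype.card_unit, Fintype.card_fin, Fintype.card_prod] at this
    omega
  have ho : Odd (n₁ * n₂) := ⟨m, hmul⟩
  obtain ⟨ho1, ho2⟩ := Nat.odd_mul.mp ho
  obtain ⟨hs, hb⟩ := too_quadForm_props (Cfsg.Agent.Lib.Helper16.qfOdd m F)
  rw [Cfsg.Agent.Lib.Helper16.qfOdd_coe] at hs hb
  exact too_of_std (Cfsg.quadFormOdd m F) hs hb (too_two_ne_zero hodd) n₁ n₂ e P f₁ f₂ hf₁ hf₂ hT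
    (fun C _ _ _ => hstd C h1 h12 ho1 ho2 (by omega) hex)

/-- the frozen statement S5709 from maximality in every context. -/
theorem s5709_of_std {F : Type*} [Field F] [Fintype F] {n : ℕ} (hn : 13 ≤ n) (heven : Even n)
    (Q : (Fin n → F) → F) (hQ : Cfsg.Geo.IsNondegenerateQuadraticForm Q)
    (hminus : ¬ Cfsg.Geo.IsPlusTypeOn Q ⊤) (hodd : Odd (Fintype.card F)) (n₁ n₂ : ℕ) (h1 : 3 ≤ n₁)
    (h1o : Odd n₁) (h2 : 4 ≤ n₂) (h2e : Even n₂) (hex : ¬ (Fintype.card F = 3 ∧ n₁ = 3))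
    (e : (Fin n) ≃ Fin n₁ × Fin n₂) (P : Matrix.GeneralLinearGroup (Fin n) F)
    (f₁ : (Fin n₁ → F) → (Fin n₁ → F) → F) (f₂ : (Fin n₂ → F) → (Fin n₂ → F) → F)
    (hf₁ : Cfsg.Geo.IsSymmetricForm f₁) (hf₂ : Cfsg.Geo.IsSymmetricForm f₂)
    (hf₂m : ¬ Cfsg.Geo.IsPlusTypeOn (fun v : Fin n₂ → F => f₂ v v) ⊤)
    (hT : Cfsg.Geo.IsTensorFormStructure id (QuadraticMap.polar Q) f₁ f₂ e P)
    (hstd : ∀ C : Ctx n₁ n₂ F, 3 ≤ n₁ → Odd n₁ → 4 ≤ n₂ → Even n₂ → 13 ≤ n₁ * n₂ →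
      ¬ (Fintype.card F = 3 ∧ n₁ = 3) →
      ¬ Cfsg.Geo.IsPlusTypeOn (fun v : Fin n₂ → F => C.f₂ v v) ⊤ →
      ¬ Cfsg.Geo.IsPlusTypeOn C.q ⊤ →
      Cfsg.Geo.IsMaximalIn (Cfsg.Geo.omegaGL C.q) (K0 n₁ n₂ F ⊓ Cfsg.Geo.omegaGL C.q)) :
    Cfsg.Geo.IsMaximalIn (Cfsg.Geo.omegaGL Q)
      (Cfsg.Geo.tensorProductSubgroup n₁ n₂ e P ⊓ Cfsg.Geo.omegaGL Q) := by
  have hmul : n₁ * n₂ = n := by
    have := Fintype.card_congr e
    simp only [Fintype.card_fin, Fintype.card_prod] at this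
    omega
  apply too_of_std Q hQ.smul hQ.polar_bilinear (too_two_ne_zero hodd) n₁ n₂ e P f₁ f₂ hf₁ hf₂ hT
  intro C hC1 hC2 hts
  apply hstd C h1 h1o h2 h2e (by omega) hex
  · rw [hC2]; exact hf₂m
  · rintro ⟨U, -, hU, hUd⟩
    obtain ⟨U', hU', hd⟩ := hts U hU
    apply hminus
    refine ⟨U', le_top, hU', ?_⟩
    rw [hd, hUd, finrank_top, finrank_top, Module.finrank_fintype_fun_eq_card,
      Module.finrank_fintype_fun_eq_card, Fintype.card_prod, Fintype.card_fin, Fintype.card_fin,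
      Fintype.card_fin, hmul]

end Cfsg.Agent.Lib.Helper21.TOO
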