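import Cfsg.Agent.Lib.Helper21.TOO.LA1b

/-!
# Project TOO, row LA1 (`alg_theta_big`): `|F| ≥ 5`, `a ≥ 3`: a commuting `Ω`-stable additive group of self-adjoint matrices is scalar.
-/

set_option autoImplicit false
set_option linter.unusedSectionVars false
set_option linter.unusedVariables false

namespace Cfsg.Agent.Lib.Helper28.TOO

open Matrix
open scoped Kronecker
open Cfsg.Agent.Lib.helper7.TP Cfsg.Agent.Lib.Helper21.TS

variable {ι : Type*} [Fintype ι] [DecidableEq ι] {a b : ℕ} {F : Type*} [Field F]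

/-- the polynomial argument: a symmetric bilinear `G` (given as `G x y = f(x, θ y)`) vanishing on the singular vectors. -/
theorem toolla1_poly {J : Matrix ι ι F} (hJ : Jᵀ = J) (two : (2 : F) ≠ 0) {θ : Matrix ι ι F}
    (hθ : SelfAdj J θ) (hS : ∀ x : ι → F, bf J x x = 0 → bf J x (θ *ᵥ x) = 0)
    {c₀ : F} (hc₀ : c₀ ≠ 0) (hc₀1 : c₀ ^ 2 ≠ 1)
    {e e' y : ι → F} (he : bf J e e = 0) (he' : bf J e' e' = 0) (hee' : bf J e e' = 1)
    (hey : bf J e y = 0) (he'y : bf J e' y = 0) :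
    bf J y (θ *ᵥ e') = 0 ∧ bf J y (θ *ᵥ y) = bf J y y * bf J e (θ *ᵥ e') := by
  have hsa := (selfAdj_iff_bf J θ).mp hθ
  have hG : ∀ x z : ι → F, bf J x (θ *ᵥ z) = bf J z (θ *ᵥ x) := by
    intro x z
    rw [← hsa z x, bf_symm hJ]
  have he'e : bf J e' e = 1 := by rw [bf_symm hJ]; exact hee'
  have hye : bf J y e = 0 := by rw [bf_symm hJ]; exact hey
  have hye' : bf J y e' = 0 := by rw [bf_symm hJ]; exact he'y
  have hGe := hS e he
  have hGe' := hS e' he'
  have hq : ∀ t : F, (-(bf J y y * bf J e (θ *ᵥ y))) * t ^ 3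
      + (bf J y (θ *ᵥ y) - bf J y y * bf J e (θ *ᵥ e')) * t ^ 2 + (2 * bf J y (θ *ᵥ e')) * t = 0 := by
    intro t
    have hsing : bf J ((-(t ^ 2 * bf J y y / 2)) • e + t • y + e') ((-(t ^ 2 * bf J y y / 2)) • e + t • y + e') = 0 := by
      simp only [bf_add_left, bf_add_right, bf_smul_left, bf_smul_right, he, he', hee', he'e, hey, he'y,
        hye, hye']
      field_simp
      ring
    have h1 := hS _ hsing
    simp only [Matrix.mulVec_add, Matrix.mulVec_smul, bf_add_left, bf_add_right, bf_smul_left,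
      bf_smul_right] at h1
    rw [hG y e, hG e' e, hG e' y, hGe, hGe'] at h1
    linear_combination (norm := skip) h1
    field_simp
    ring
  have h1 := hq 1
  have hm1 := hq (-1)
  have hc := hq c₀
  have hB : bf J y (θ *ᵥ y) - bf J y y * bf J e (θ *ᵥ e') = 0 := by
    have : (2 : F) * (bf J y (θ *ᵥ y) - bf J y y * bf J e (θ *ᵥ e')) = 0 := by
      linear_combination h1 + hm1
    rcases mul_eq_zero.mp this with h | h
    · exact absurd h two
    · exact h
  have hA : bf J y y * bf J e (θ *ᵥ y) = 0 := by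
    have : (c₀ * (c₀ ^ 2 - 1)) * (bf J y y * bf J e (θ *ᵥ y)) = 0 := by
      linear_combination (-1 : F) * hc + c₀ * h1 + (c₀ ^ 2 - c₀) * hB
    rcases mul_eq_zero.mp this with h | h
    · exfalso
      rcases mul_eq_zero.mp h with h' | h'
      · exact hc₀ h'
      · exact hc₀1 (by linear_combination h')
    · exact h
  have hC : bf J y (θ *ᵥ e') = 0 := by
    have : (2 : F) * bf J y (θ *ᵥ e') = 0 := by
      linear_combination h1 + hA - hB
    rcases mul_eq_zero.mp this with h | h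
    · exact absurd h two
    · exact h
  exact ⟨hC, by linear_combination hB⟩

/-- LA1 [L]. `|F| ≥ 5`, `a ≥ 3`: pairwise commuting conjugates ⟹ scalar. -/
theorem alg_theta_big [Fintype F] {J : Matrix (Fin a) (Fin a) F} (hJ : Jᵀ = J) (two : (2 : F) ≠ 0)
    (hdet : J.det ≠ 0) (ha : 3 ≤ a) (hF : 5 ≤ Fintype.card F)
    (Θ : AddSubgroup (Matrix (Fin a) (Fin a) F)) (hsa : ∀ θ ∈ Θ, SelfAdj J θ)
    (hconj : ∀ θ ∈ Θ, ∀ α ∈ Om J, (α : Matrix (Fin a) (Fin a) F) * θ *
      ((α⁻¹ : Matrix.GeneralLinearGroup (Fin a) F) : Matrix (Fin a) (Fin a) F) ∈ Θ)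
    (hcomm : ∀ θ ∈ Θ, ∀ θ' ∈ Θ, θ * θ' = θ' * θ) :
    ∀ θ ∈ Θ, ∃ c : F, θ = c • (1 : Matrix (Fin a) (Fin a) F) := by
  intro θ hθ
  have hn : 3 ≤ Fintype.card (Fin a) := by rw [Fintype.card_fin]; exact ha
  have hS : ∀ x : Fin a → F, bf J x x = 0 → bf J x (θ *ᵥ x) = 0 := fun x hx =>
    toolla1_sing_zero hJ two hdet hn hF Θ hsa hconj hcomm hθ hx
  obtain ⟨c₀, hc₀, hc₀1⟩ := toolla1_exists_c hF
  obtain ⟨e, e', he, he', hee'⟩ := sing_ex hJ two hdet ha
  have hθsa := hsa θ hθ
  have hsa' := (selfAdj_iff_bf J θ).mp hθsa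
  have hG : ∀ x z : Fin a → F, bf J x (θ *ᵥ z) = bf J z (θ *ᵥ x) := by
    intro x z
    rw [← hsa' z x, bf_symm hJ]
  have he'e : bf J e' e = 1 := by rw [bf_symm hJ]; exact hee'
  set μ : F := bf J e (θ *ᵥ e') with hμ
  have hGe := hS e he
  have hGe' := hS e' he'
  -- the facts on U
  have hU1 : ∀ y : Fin a → F, bf J e y = 0 → bf J e' y = 0 →
      bf J y (θ *ᵥ e') = 0 ∧ bf J y (θ *ᵥ y) = bf J y y * μ := fun y h1 h2 =>
    toolla1_poly hJ two hθsa hS hc₀ hc₀1 he he' hee' h1 h2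
  have hU2 : ∀ y : Fin a → F, bf J e y = 0 → bf J e' y = 0 → bf J y (θ *ᵥ e) = 0 := by
    intro y h1 h2
    exact (toolla1_poly hJ two hθsa hS hc₀ hc₀1 he' he he'e h2 h1).1
  have hU3 : ∀ y y' : Fin a → F, bf J e y = 0 → bf J e' y = 0 → bf J e y' = 0 → bf J e' y' = 0 →
      bf J y (θ *ᵥ y') = μ * bf J y y' := by
    intro y y' h1 h2 h1' h2'
    have a1 := (hU1 y h1 h2).2
    have a2 := (hU1 y' h1' h2').2
    have a3 := (hU1 (y + y') (by rw [bf_add_right, h1, h1', add_zero])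
      (by rw [bf_add_right, h2, h2', add_zero])).2
    simp only [Matrix.mulVec_add, bf_add_left, bf_add_right] at a3
    rw [hG y' y, bf_symm hJ y' y] at a3
    have : (2 : F) * (bf J y (θ *ᵥ y') - μ * bf J y y') = 0 := by
      linear_combination a3 - a1 - a2
    rcases mul_eq_zero.mp this with h | h
    · exact absurd h two
    · linear_combination h
  -- all of the space
  have hall : ∀ x z : Fin a → F, bf J x (θ *ᵥ z) = μ * bf J x z := by
    intro x z
    set xU : Fin a → F := x - bf J e' x • e - bf J e x • e' with hxU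
    set zU : Fin a → F := z - bf J e' z • e - bf J e z • e' with hzU
    have hx : x = bf J e' x • e + bf J e x • e' + xU := by rw [hxU]; abel
    have hz : z = bf J e' z • e + bf J e z • e' + zU := by rw [hzU]; abel
    have x1 : bf J e xU = 0 := by
      rw [hxU]; simp only [bf_sub_right, bf_smul_right, he, hee']; ring
    have x2 : bf J e' xU = 0 := by
      rw [hxU]; simp only [bf_sub_right, bf_smul_right, he', he'e]; ring
    have z1 : bf J e zU = 0 := by
      rw [hzU]; simp only [bf_sub_right, bf_smul_right, he, hee']; ring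
    have z2 : bf J e' zU = 0 := by
      rw [hzU]; simp only [bf_sub_right, bf_smul_right, he', he'e]; ring
    have x1' : bf J xU e = 0 := by rw [bf_symm hJ]; exact x1
    have x2' : bf J xU e' = 0 := by rw [bf_symm hJ]; exact x2
    have b1 := (hU1 xU x1 x2).1
    have b2 := hU2 xU x1 x2
    have b3 := (hU1 zU z1 z2).1
    have b4 := hU2 zU z1 z2
    have b5 := hU3 xU zU x1 x2 z1 z2
    rw [hx, hz]
    generalize bf J e' x = p1
    generalize bf J e x = p2
    generalize bf J e' z = r1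
    generalize bf J e z = r2
    simp only [Matrix.mulVec_add, Matrix.mulVec_smul, bf_add_left, bf_add_right, bf_smul_left,
      bf_smul_right, he, he', hee', he'e, x1, x2, z1, z2, x1', x2']
    rw [hG e' e, hG e zU, hG e' zU, hGe, hGe', b1, b2, b3, b4, b5, ← hμ]
    ring
  refine ⟨μ, ?_⟩
  have hJθ : J * θ = μ • J := by
    apply bf_ext
    intro x z
    rw [← bf_mulVec_right, hall x z]
    simp only [bf, Matrix.smul_mulVec, dotProduct_smul, smul_eq_mul]
  have hu : IsUnit J := (Matrix.isUnit_iff_isUnit_det J).mpr (isUnit_iff_ne_zero.mpr hdet)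
  obtain ⟨Ju, hJu⟩ := hu
  have h1 : (↑Ju⁻¹ : Matrix (Fin a) (Fin a) F) * J = 1 := by
    rw [← hJu, ← Units.val_mul, inv_mul_cancel, Units.val_one]
  calc θ = (↑Ju⁻¹ : Matrix (Fin a) (Fin a) F) * J * θ := by rw [h1, Matrix.one_mul]
    _ = (↑Ju⁻¹ : Matrix (Fin a) (Fin a) F) * (μ • J) := by rw [Matrix.mul_assoc, hJθ]
    _ = μ • 1 := by rw [Matrix.mul_smul, h1]

end Cfsg.Agent.Lib.Helper28.TOO
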