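import Cfsg.Agent.Lib.Helper21.TOO.LA2c
import Cfsg.Agent.Lib.Helper21.TOO.LA1
import Cfsg.Agent.Lib.helper23.TOOLG6

/-!
# Project TOO, rows LA2 (`alg_theta_ge5`) and LA3 (`alg_theta`).
-/

set_option autoImplicit false
set_option linter.unusedSectionVars false
set_option linter.unusedVariables false

namespace Cfsg.Agent.Lib.Helper28.TOO

open Matrix
open scoped Kronecker
open Cfsg.Agent.Lib.helper7.TP Cfsg.Agent.Lib.Helper21.TS

variable {ι : Type*} [Fintype ι] [DecidableEq ι] {a b : ℕ} {F : Type*} [Field F]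

/-- LA2 [L]. `a ≥ 5`, any odd `q`. -/
theorem alg_theta_ge5 [Fintype F] {J : Matrix (Fin a) (Fin a) F} (hJ : Jᵀ = J) (two : (2 : F) ≠ 0)
    (hdet : J.det ≠ 0) (ha : 5 ≤ a)
    (Θ : AddSubgroup (Matrix (Fin a) (Fin a) F)) (hsa : ∀ θ ∈ Θ, SelfAdj J θ)
    (hconj : ∀ θ ∈ Θ, ∀ α ∈ Om J, (α : Matrix (Fin a) (Fin a) F) * θ *
      ((α⁻¹ : Matrix.GeneralLinearGroup (Fin a) F) : Matrix (Fin a) (Fin a) F) ∈ Θ)
    (hcomm : ∀ θ ∈ Θ, ∀ θ' ∈ Θ, θ * θ' = θ' * θ) :
    ∀ θ ∈ Θ, ∃ c : F, θ = c • (1 : Matrix (Fin a) (Fin a) F) := by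
  have hn5 : 5 ≤ Fintype.card (Fin a) := by rw [Fintype.card_fin]; exact ha
  have hn3 : 3 ≤ Fintype.card (Fin a) := by omega
  have hspan : ∀ w : Fin a → F, w ≠ 0 → bf J w w = 0 → ∀ n : Fin a → F, bf J w n = 0 →
      n ∈ Submodule.span F {w₁ : Fin a → F | bf J w₁ w₁ = 0 ∧ bf J w w₁ = 0} :=
    fun w hw0 hw n hwn => sing_span_perp hJ two hdet hn5 hw0 hw n hwn
  exact toolla2_core hJ two hdet hn3 hspan (sing_ex hJ two hdet (by omega)) Θ hsa hconj hcomm

/-- LA3 [S]. the two cases. -/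
theorem alg_theta [Fintype F] {J : Matrix (Fin a) (Fin a) F} (hJ : Jᵀ = J) (two : (2 : F) ≠ 0)
    (hdet : J.det ≠ 0) (ha : 3 ≤ a) (hodd : Odd a) (hex : ¬ (Fintype.card F = 3 ∧ a = 3))
    (Θ : AddSubgroup (Matrix (Fin a) (Fin a) F)) (hsa : ∀ θ ∈ Θ, SelfAdj J θ)
    (hconj : ∀ θ ∈ Θ, ∀ α ∈ Om J, (α : Matrix (Fin a) (Fin a) F) * θ *
      ((α⁻¹ : Matrix.GeneralLinearGroup (Fin a) F) : Matrix (Fin a) (Fin a) F) ∈ Θ)
    (hcomm : ∀ θ ∈ Θ, ∀ θ' ∈ Θ, θ * θ' = θ' * θ) :
    ∀ θ ∈ Θ, ∃ c : F, θ = c • (1 : Matrix (Fin a) (Fin a) F) := by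
  by_cases h5 : 5 ≤ a
  · exact alg_theta_ge5 hJ two hdet h5 Θ hsa hconj hcomm
  · have ha3 : a = 3 := by
      obtain ⟨k, hk⟩ := hodd
      omega
    have hF3 : Fintype.card F ≠ 3 := fun h => hex ⟨h, ha3⟩
    -- |F| is a prime power, odd: not 2, 4; and ≥ 2
    have hF5 : 5 ≤ Fintype.card F := by
      obtain ⟨p, _, n, hp, hcard⟩ := FiniteField.card' F
      have hp' := hp.two_le
      by_contra hlt
      push Not at hlt
      -- card F ∈ {2, 3, 4}: then char = 2 or card = 3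
      have h2 : (2 : F) = 0 ∨ Fintype.card F = 3 := by
        have hc : Fintype.card F = 2 ∨ Fintype.card F = 3 ∨ Fintype.card F = 4 := by
          have : 2 ≤ Fintype.card F := by
            rw [hcard]
            calc 2 ≤ p := hp'
              _ = p ^ 1 := (pow_one p).symm
              _ ≤ p ^ (n : ℕ) := Nat.pow_le_pow_right (by omega) n.pos
          omega
        rcases hc with h | h | h
        · left
          have : ((Fintype.card F : ℕ) : F) = 0 := Nat.cast_card_eq_zero F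
          rw [h] at this
          exact_mod_cast this
        · right; exact h
        · left
          have h4 : ((Fintype.card F : ℕ) : F) = 0 := Nat.cast_card_eq_zero F
          rw [h] at h4
          have : (2 : F) * 2 = 0 := by
            have : ((4 : ℕ) : F) = 2 * 2 := by norm_num
            rw [← this]; exact h4
          rcases mul_eq_zero.mp this with h' | h' <;> exact h'
      rcases h2 with h | h
      · exact two h
      · exact hF3 h
    exact alg_theta_big hJ two hdet ha hF5 Θ hsa hconj hcomm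

end Cfsg.Agent.Lib.Helper28.TOO
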