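import Mathlib
import Cfsg.Prelude.Def_GeometricClasses
import Cfsg.Agent.Lib.helper7.TP.Defs

/-!
# Project TOO (S5681, S5709): `O_a(F) ⊗ O_b(F)` in `Ω_{ab}(F)`, `|F|` odd — the context (port of `helper7/TO/Defs.lean`)

Standard model (shared with projects TP / TO): `V = F^(Fin a × Fin b) = A ⊗ B`, `ten u w = u ⊗ w`, `K0` = all `α ⊗ₖ β`.
A context `C : Ctx a b F` carries non-degenerate SYMMETRIC forms `f₁` on `A`, `f₂` on `B`, the bilinear form
`f` on `V` with `f (u ⊗ w) (u' ⊗ w') = f₁ u u' * f₂ w w'` and a quadratic form `q` with polar form `f` (`2 ≠ 0`, so `q x = f x x / 2`).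
-/

set_option autoImplicit false

namespace Cfsg.Agent.Lib.Helper21.TOO

open Matrix Cfsg.Agent.Lib.helper7.TP
open scoped Kronecker

variable {a b : ℕ} {F : Type*} [Field F]

/-- The data of project TOO. -/
structure Ctx (a b : ℕ) (F : Type*) [Field F] where
  f₁ : (Fin a → F) → (Fin a → F) → F
  f₂ : (Fin b → F) → (Fin b → F) → F
  f : (Fin a × Fin b → F) → (Fin a × Fin b → F) → F
  q : (Fin a × Fin b → F) → F
  two : (2 : F) ≠ 0
  hf₁ : Cfsg.Geo.IsSymmetricForm f₁
  hf₂ : Cfsg.Geo.IsSymmetricForm f₂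
  hf : Cfsg.Geo.IsBilinearForm f
  f_ten : ∀ (u : Fin a → F) (w : Fin b → F) (u' : Fin a → F) (w' : Fin b → F),
    f (ten u w) (ten u' w') = f₁ u u' * f₂ w w'
  q_smul : ∀ (c : F) (x : Fin a × Fin b → F), q (c • x) = c * c * q x
  q_add : ∀ x y : Fin a × Fin b → F, q (x + y) = q x + q y + f x y

namespace Ctx

variable (C : Ctx a b F)

/-- `2 q(x) = f(x, x)`. -/
theorem two_q (x : Fin a × Fin b → F) : 2 * C.q x = C.f x x := by
  have h1 := C.q_add x x
  have h2 := C.q_smul 2 x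
  rw [two_smul] at h2
  rw [h2] at h1
  linear_combination h1

theorem q_eq (x : Fin a × Fin b → F) : C.q x = C.f x x / 2 := by
  rw [← C.two_q x, mul_div_cancel_left₀ _ C.two]

/-- the polar form of `q` is `f`. -/
theorem polar_q (x y : Fin a × Fin b → F) : QuadraticMap.polar C.q x y = C.f x y := by
  rw [QuadraticMap.polar, C.q_add]
  ring

theorem q_ten (u : Fin a → F) (w : Fin b → F) : C.q (ten u w) = C.f₁ u u * C.f₂ w w / 2 := by
  rw [C.q_eq, C.f_ten]

/-- the isometry group of `q`. -/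
def G : Subgroup (Matrix.GeneralLinearGroup (Fin a × Fin b) F) := Cfsg.isometryGroup F C.q

theorem mem_G (g : Matrix.GeneralLinearGroup (Fin a × Fin b) F) :
    g ∈ C.G ↔ ∀ x, C.q ((g : Matrix (Fin a × Fin b) (Fin a × Fin b) F) *ᵥ x) = C.q x := by
  unfold G Cfsg.isometryGroup Cfsg.preserving
  constructor
  · intro h x
    exact h x x
  · intro h x _
    exact h x

/-- an isometry of `q` preserves `f`. -/
theorem f_of_mem_G {g : Matrix.GeneralLinearGroup (Fin a × Fin b) F} (hg : g ∈ C.G)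
    (x y : Fin a × Fin b → F) :
    C.f ((g : Matrix (Fin a × Fin b) (Fin a × Fin b) F) *ᵥ x)
      ((g : Matrix (Fin a × Fin b) (Fin a × Fin b) F) *ᵥ y) = C.f x y := by
  have h := (C.mem_G g).mp hg
  have h1 := h (x + y)
  rw [Matrix.mulVec_add, C.q_add, C.q_add, h x, h y] at h1
  linear_combination h1

/-- `Ω(V)`: the commutator subgroup of the isometry group, inside `GL(V)`. -/
def Om : Subgroup (Matrix.GeneralLinearGroup (Fin a × Fin b) F) := Cfsg.Geo.omegaGL C.q

/-- `H = (GL_a ⊗ GL_b) ∩ Ω(V)`, the subgroup whose maximality in `Ω(V)` is the claim. -/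
def H : Subgroup (Matrix.GeneralLinearGroup (Fin a × Fin b) F) := K0 a b F ⊓ Cfsg.Geo.omegaGL C.q

theorem H_le_Om : C.H ≤ C.Om := inf_le_right

end Ctx

end Cfsg.Agent.Lib.Helper21.TOO
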