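import Cfsg.Agent.Lib.Helper21.TOO.LG1
import Cfsg.Agent.Lib.Helper10.TSHYPB

/-!
# Project TOO, row LA1 (`alg_theta_big`), part a: `f(e, θ e) = 0` for every singular `e`.
-/

set_option autoImplicit false
set_option linter.unusedSectionVars false
set_option linter.unusedVariables false

namespace Cfsg.Agent.Lib.Helper28.TOO

open Matrix
open scoped Kronecker
open Cfsg.Agent.Lib.helper7.TP Cfsg.Agent.Lib.Helper21.TS

variable {ι : Type*} [Fintype ι] [DecidableEq ι] {F : Type*} [Field F]

/-- a non-zero vector perpendicular to two given vectors (`n ≥ 3`). -/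
theorem toolla1_perp2 (J : Matrix ι ι F) (hn : 3 ≤ Fintype.card ι) (e e' : ι → F) :
    ∃ x : ι → F, x ≠ 0 ∧ bf J e x = 0 ∧ bf J e' x = 0 := by
  let M : Matrix (Fin 2) ι F := Matrix.of ![e ᵥ* J, e' ᵥ* J]
  have hlt : Module.finrank F (Fin 2 → F) < Module.finrank F (ι → F) := by
    rw [Module.finrank_fin_fun, Module.finrank_fintype_fun_eq_card]
    omega
  have hker := LinearMap.ker_ne_bot_of_finrank_lt (f := Matrix.toLin' M) hlt
  obtain ⟨x, hx, hx0⟩ := (Submodule.ne_bot_iff _).mp hker
  rw [LinearMap.mem_ker, Matrix.toLin'_apply] at hx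
  refine ⟨x, hx0, ?_, ?_⟩
  · have := congrFun hx 0
    simpa [M, Matrix.mulVec, bf, Matrix.dotProduct_mulVec] using this
  · have := congrFun hx 1
    simpa [M, Matrix.mulVec, bf, Matrix.dotProduct_mulVec] using this

/-- a non-singular vector perpendicular to a hyperbolic pair (`n ≥ 3`). -/
theorem toolla1_nonsing_perp {J : Matrix ι ι F} (hJ : Jᵀ = J) (two : (2 : F) ≠ 0) (hdet : J.det ≠ 0)
    (hn : 3 ≤ Fintype.card ι) {e e' : ι → F} (he : bf J e e = 0) (he' : bf J e' e' = 0)
    (hee' : bf J e e' = 1) :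
    ∃ n : ι → F, bf J e n = 0 ∧ bf J e' n = 0 ∧ bf J n n ≠ 0 := by
  have he'e : bf J e' e = 1 := by rw [bf_symm hJ]; exact hee'
  obtain ⟨x, hx0, hxe, hxe'⟩ := toolla1_perp2 J hn e e'
  by_cases hxx : bf J x x = 0
  · obtain ⟨m', hm'⟩ := bf_nondeg hdet hx0
    set m : ι → F := m' - bf J e' m' • e - bf J e m' • e' with hm
    have hex : bf J x e = 0 := by rw [bf_symm hJ]; exact hxe
    have he'x : bf J x e' = 0 := by rw [bf_symm hJ]; exact hxe'
    have hme : bf J e m = 0 := by
      rw [hm]
      simp only [bf_sub_right, bf_smul_right, he, hee']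
      ring
    have hme' : bf J e' m = 0 := by
      rw [hm]
      simp only [bf_sub_right, bf_smul_right, he', he'e]
      ring
    have hxm : bf J x m ≠ 0 := by
      rw [hm]
      simp only [bf_sub_right, bf_smul_right, hex, he'x, mul_zero, sub_zero]
      exact hm'
    by_cases hmm : bf J m m = 0
    · refine ⟨x + m, ?_, ?_, ?_⟩
      · rw [bf_add_right, hxe, hme, add_zero]
      · rw [bf_add_right, hxe', hme', add_zero]
      · have hmx : bf J m x = bf J x m := bf_symm hJ m x
        simp only [bf_add_left, bf_add_right, hxx, hmm, hmx]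
        intro h0
        apply hxm
        have : (2 : F) * bf J x m = 0 := by linear_combination h0
        rcases mul_eq_zero.mp this with h | h
        · exact absurd h two
        · exact h
    · exact ⟨m, hme, hme', hmm⟩
  · exact ⟨x, hxe, hxe', hxx⟩

/-- the inverse of a `GL` element whose matrix is a Siegel transformation. -/
theorem toolla1_inv_coe {J : Matrix ι ι F} (hJ : Jᵀ = J) (two : (2 : F) ≠ 0) {w z : ι → F}
    (hw : bf J w w = 0) (hz : bf J w z = 0) (β : Matrix.GeneralLinearGroup ι F)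
    (hβ : (β : Matrix ι ι F) = sieg J w z) :
    ((β⁻¹ : Matrix.GeneralLinearGroup ι F) : Matrix ι ι F) = sieg J w (-z) := by
  have h1 : bf J w (-z) = 0 := by rw [bf_neg_right, hz, neg_zero]
  have h2 : sieg J w z * sieg J w (-z) = 1 := by
    rw [sieg_mul hJ two hw hz h1, add_neg_cancel, tssieg_zero]
  have h3 : ((β⁻¹ : Matrix.GeneralLinearGroup ι F) : Matrix ι ι F) * (β : Matrix ι ι F) = 1 := by
    rw [← Units.val_mul, inv_mul_cancel, Units.val_one]
  calc ((β⁻¹ : Matrix.GeneralLinearGroup ι F) : Matrix ι ι F)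
      = ((β⁻¹ : Matrix.GeneralLinearGroup ι F) : Matrix ι ι F) * (sieg J w z * sieg J w (-z)) := by
        rw [h2, Matrix.mul_one]
    _ = (((β⁻¹ : Matrix.GeneralLinearGroup ι F) : Matrix ι ι F) * (β : Matrix ι ι F)) * sieg J w (-z) := by
        rw [hβ, Matrix.mul_assoc]
    _ = sieg J w (-z) := by rw [h3, Matrix.one_mul]

/-- `sieg J e (c n) = 1 + c ν + c² μ`. -/
theorem toolla1_sieg_expand (J : Matrix ι ι F) (e n : ι → F) (c : F) :
    sieg J e (c • n) = 1 + c • (opm J e n - opm J n e) + c ^ 2 • ((-(bf J n n / 2)) • opm J e e) := by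
  rw [sieg, opm_smul_right, opm_smul_left, bf_smul_left, bf_smul_right]
  simp only [smul_sub, smul_smul]
  have : c * (c * bf J n n) / 2 = -(c ^ 2 * -(bf J n n / 2)) := by ring
  rw [this, neg_smul]
  abel

theorem toolla1_expand (θ ν μ : Matrix ι ι F) (c : F) :
    (1 + c • ν + c ^ 2 • μ) * θ * (1 - c • ν + c ^ 2 • μ) +
      (1 - c • ν + c ^ 2 • μ) * θ * (1 + c • ν + c ^ 2 • μ)
      = (2 : F) • θ + (2 * c ^ 2) • (μ * θ + θ * μ - ν * θ * ν) + (2 * c ^ 4) • (μ * θ * μ) := by
  simp only [add_mul, mul_add, sub_mul, mul_sub, one_mul, mul_one, smul_mul_assoc, mul_smul_comm,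
    Matrix.mul_assoc]
  module

/-- a field with at least 5 elements has an element `c ≠ 0` with `c² ≠ 1`. -/
theorem toolla1_exists_c [Fintype F] (hF : 5 ≤ Fintype.card F) : ∃ c : F, c ≠ 0 ∧ c ^ 2 ≠ 1 := by
  classical
  by_contra hcon
  push Not at hcon
  have hsub : (Finset.univ : Finset F) ⊆ {0, 1, -1} := by
    intro c _
    by_cases hc : c = 0
    · simp [hc]
    · have h1 := hcon c hc
      have : (c - 1) * (c + 1) = 0 := by linear_combination h1
      rcases mul_eq_zero.mp this with h | h
      · have : c = 1 := by linear_combination h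
        simp [this]
      · have : c = -1 := by linear_combination h
        simp [this]
  have := Finset.card_le_card hsub
  rw [Finset.card_univ] at this
  have h3 : ({0, 1, -1} : Finset F).card ≤ 3 := Finset.card_le_three
  omega

end Cfsg.Agent.Lib.Helper28.TOO
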