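import Cfsg.Agent.Lib.Helper21.TOO.LA1a

/-!
# Project TOO, row LA1 (`alg_theta_big`), part b: `f(e, θ e) = 0` for every singular `e` (`|F| ≥ 5`).
-/

set_option autoImplicit false
set_option linter.unusedSectionVars false
set_option linter.unusedVariables false

namespace Cfsg.Agent.Lib.Helper28.TOO

open Matrix
open scoped Kronecker
open Cfsg.Agent.Lib.helper7.TP Cfsg.Agent.Lib.Helper21.TS

variable {ι : Type*} [Fintype ι] [DecidableEq ι] {F : Type*} [Field F]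

/-- the commutation relation for one value of `c`. -/
theorem toolla1_comm_c {J : Matrix ι ι F} (hJ : Jᵀ = J) (two : (2 : F) ≠ 0) (hdet : J.det ≠ 0)
    (Θ : AddSubgroup (Matrix ι ι F))
    (hconj : ∀ θ ∈ Θ, ∀ α ∈ Om J, (α : Matrix ι ι F) * θ *
      ((α⁻¹ : Matrix.GeneralLinearGroup ι F) : Matrix ι ι F) ∈ Θ)
    (hcomm : ∀ θ ∈ Θ, ∀ θ' ∈ Θ, θ * θ' = θ' * θ) {θ : Matrix ι ι F} (hθ : θ ∈ Θ)
    {e n : ι → F} (he : bf J e e = 0) (hen : bf J e n = 0) (c : F) :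
    c ^ 2 • (θ * ((-(bf J n n / 2)) • opm J e e * θ + θ * ((-(bf J n n / 2)) • opm J e e)
          - (opm J e n - opm J n e) * θ * (opm J e n - opm J n e))
        - ((-(bf J n n / 2)) • opm J e e * θ + θ * ((-(bf J n n / 2)) • opm J e e)
          - (opm J e n - opm J n e) * θ * (opm J e n - opm J n e)) * θ)
      + c ^ 4 • (θ * ((-(bf J n n / 2)) • opm J e e * θ * ((-(bf J n n / 2)) • opm J e e))
        - ((-(bf J n n / 2)) • opm J e e * θ * ((-(bf J n n / 2)) • opm J e e)) * θ) = 0 := by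
  set ν : Matrix ι ι F := opm J e n - opm J n e with hν
  set μ : Matrix ι ι F := (-(bf J n n / 2)) • opm J e e with hμ
  have hz : ∀ c' : F, bf J e (c' • n) = 0 := by
    intro c'
    rw [bf_smul_right, hen, mul_zero]
  -- the two conjugates
  have hA : ∀ c' : F, (1 + c' • ν + c' ^ 2 • μ) * θ * (1 - c' • ν + c' ^ 2 • μ) ∈ Θ := by
    intro c'
    obtain ⟨β, hβm, hβ⟩ := sieg_mem_Om hJ two hdet he (hz c')
    have hinv := toolla1_inv_coe hJ two he (hz c') β hβ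
    have h1 := hconj θ hθ β hβm
    rw [hβ, hinv, toolla1_sieg_expand, ← neg_smul, toolla1_sieg_expand] at h1
    have e1 : (1 : Matrix ι ι F) + -c' • (opm J e n - opm J n e) + (-c') ^ 2 • (-(bf J n n / 2) • opm J e e)
        = 1 - c' • ν + c' ^ 2 • μ := by
      rw [neg_smul, neg_sq, ← sub_eq_add_neg]
    rw [e1] at h1
    exact h1
  have hS : (1 + c • ν + c ^ 2 • μ) * θ * (1 - c • ν + c ^ 2 • μ) +
      (1 - c • ν + c ^ 2 • μ) * θ * (1 + c • ν + c ^ 2 • μ) ∈ Θ := by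
    refine Θ.add_mem (hA c) ?_
    have := hA (-c)
    rw [neg_smul, neg_sq, sub_neg_eq_add, ← sub_eq_add_neg] at this
    exact this
  have hc := hcomm θ hθ _ hS
  rw [toolla1_expand] at hc
  have h2 : (2 : F) • (c ^ 2 • (θ * (μ * θ + θ * μ - ν * θ * ν) - (μ * θ + θ * μ - ν * θ * ν) * θ)
      + c ^ 4 • (θ * (μ * θ * μ) - (μ * θ * μ) * θ)) = 0 := by
    have h3 : θ * ((2 : F) • θ + (2 * c ^ 2) • (μ * θ + θ * μ - ν * θ * ν) + (2 * c ^ 4) • (μ * θ * μ))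
        - ((2 : F) • θ + (2 * c ^ 2) • (μ * θ + θ * μ - ν * θ * ν) + (2 * c ^ 4) • (μ * θ * μ)) * θ = 0 :=
      sub_eq_zero.mpr hc
    rw [← h3]
    simp only [mul_add, add_mul, mul_smul_comm, smul_mul_assoc]
    module
  rcases smul_eq_zero.mp h2 with h | h
  · exact absurd h two
  · exact h

/-- LA1, step A: `f(e, θ e) = 0` for every singular `e`. -/
theorem toolla1_sing_zero [Fintype F] {J : Matrix ι ι F} (hJ : Jᵀ = J) (two : (2 : F) ≠ 0)
    (hdet : J.det ≠ 0) (hn : 3 ≤ Fintype.card ι) (hF : 5 ≤ Fintype.card F)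
    (Θ : AddSubgroup (Matrix ι ι F)) (hsa : ∀ θ ∈ Θ, SelfAdj J θ)
    (hconj : ∀ θ ∈ Θ, ∀ α ∈ Om J, (α : Matrix ι ι F) * θ *
      ((α⁻¹ : Matrix.GeneralLinearGroup ι F) : Matrix ι ι F) ∈ Θ)
    (hcomm : ∀ θ ∈ Θ, ∀ θ' ∈ Θ, θ * θ' = θ' * θ) {θ : Matrix ι ι F} (hθ : θ ∈ Θ)
    {e : ι → F} (he : bf J e e = 0) : bf J e (θ *ᵥ e) = 0 := by
  by_cases he0 : e = 0
  · subst he0
    exact bf_zero_left J _
  obtain ⟨e', he', hee'⟩ := toolg1_partner hJ two hdet he0 he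
  obtain ⟨n, hen, he'n, hnn⟩ := toolla1_nonsing_perp hJ two hdet hn he he' hee'
  obtain ⟨c₀, hc₀, hc₀1⟩ := toolla1_exists_c hF
  have h1 := toolla1_comm_c hJ two hdet Θ hconj hcomm hθ he hen 1
  have h2 := toolla1_comm_c hJ two hdet Θ hconj hcomm hθ he hen c₀
  set μ : Matrix ι ι F := (-(bf J n n / 2)) • opm J e e with hμ
  set ν : Matrix ι ι F := opm J e n - opm J n e with hν
  set X : Matrix ι ι F := θ * (μ * θ + θ * μ - ν * θ * ν) - (μ * θ + θ * μ - ν * θ * ν) * θ with hX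
  set Y : Matrix ι ι F := θ * (μ * θ * μ) - (μ * θ * μ) * θ with hY
  rw [one_pow, one_pow, one_smul, one_smul] at h1
  -- Y = 0
  have hY0 : Y = 0 := by
    have h3 : (c₀ ^ 2 * (c₀ ^ 2 - 1)) • Y = 0 := by
      have : (c₀ ^ 2 * (c₀ ^ 2 - 1)) • Y = (c₀ ^ 2 • X + c₀ ^ 4 • Y) - c₀ ^ 2 • (X + Y) := by
        module
      rw [this, h1, h2, smul_zero, sub_zero]
    rcases smul_eq_zero.mp h3 with h | h
    · exfalso
      rcases mul_eq_zero.mp h with h' | h'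
      · exact hc₀ (pow_eq_zero_iff (two_ne_zero) |>.mp h')
      · exact hc₀1 (by linear_combination h')
    · exact h
  -- evaluate at e'
  have hμv : ∀ x : ι → F, μ *ᵥ x = (-(bf J n n / 2) * bf J e x) • e := by
    intro x
    rw [hμ, Matrix.smul_mulVec, opm_mulVec, smul_smul]
  have hsaθ := (selfAdj_iff_bf J θ).mp (hsa θ hθ)
  have hYe : Y *ᵥ e' = ((bf J n n / 2) ^ 2 * bf J e (θ *ᵥ e)) • (θ *ᵥ e - bf J e (θ *ᵥ e') • e) := by
    have a1 : μ *ᵥ e' = (-(bf J n n / 2)) • e := by rw [hμv, hee', mul_one]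
    have a2 : μ *ᵥ (θ *ᵥ e) = (-(bf J n n / 2) * bf J e (θ *ᵥ e)) • e := hμv _
    have a3 : μ *ᵥ (θ *ᵥ e') = (-(bf J n n / 2) * bf J e (θ *ᵥ e')) • e := hμv _
    rw [hY, Matrix.sub_mulVec]
    simp only [← Matrix.mulVec_mulVec]
    simp only [a1, a2, a3, Matrix.mulVec_smul]
    module
  rw [hY0, Matrix.zero_mulVec] at hYe
  by_contra hg
  have hk : (bf J n n / 2) ^ 2 * bf J e (θ *ᵥ e) ≠ 0 := by
    apply mul_ne_zero _ hg
    exact pow_ne_zero 2 (div_ne_zero hnn two)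
  have h4 : θ *ᵥ e - bf J e (θ *ᵥ e') • e = 0 := by
    rcases smul_eq_zero.mp hYe.symm with h | h
    · exact absurd h hk
    · exact h
  have h5 : θ *ᵥ e = bf J e (θ *ᵥ e') • e := sub_eq_zero.mp h4
  apply hg
  rw [h5, bf_smul_right, he, mul_zero]

end Cfsg.Agent.Lib.Helper28.TOO
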