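import Cfsg.Agent.Lib.Helper21.TOO.LA1b
import Cfsg.Agent.Lib.helper6.TOOGH5a

/-!
# Project TOO, row LA2 (`alg_theta_ge5`), part a: long root conjugation, the rank one element, the contradiction.
-/

set_option autoImplicit false
set_option linter.unusedSectionVars false
set_option linter.unusedVariables false

namespace Cfsg.Agent.Lib.Helper28.TOO

open Matrix
open scoped Kronecker
open Cfsg.Agent.Lib.helper7.TP Cfsg.Agent.Lib.Helper21.TS

variable {ι : Type*} [Fintype ι] [DecidableEq ι] {F : Type*} [Field F]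

/-- for a totally singular pair `(u, n)`: `-2 ν θ ν ∈ Θ`, `ν = u n^* - n u^*`. -/
theorem toolla2_T_mem {J : Matrix ι ι F} (hJ : Jᵀ = J) (two : (2 : F) ≠ 0) (hdet : J.det ≠ 0)
    (Θ : AddSubgroup (Matrix ι ι F))
    (hconj : ∀ θ ∈ Θ, ∀ α ∈ Om J, (α : Matrix ι ι F) * θ *
      ((α⁻¹ : Matrix.GeneralLinearGroup ι F) : Matrix ι ι F) ∈ Θ)
    {θ : Matrix ι ι F} (hθ : θ ∈ Θ) {u n : ι → F} (hu : bf J u u = 0) (hun : bf J u n = 0)
    (hn : bf J n n = 0) :
    (-2 : F) • ((opm J u n - opm J n u) * θ * (opm J u n - opm J n u)) ∈ Θ := by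
  set ν : Matrix ι ι F := opm J u n - opm J n u with hν
  have hz : ∀ c' : F, bf J u (c' • n) = 0 := by
    intro c'
    rw [bf_smul_right, hun, mul_zero]
  have hA : ∀ c' : F, (1 + c' • ν) * θ * (1 - c' • ν) ∈ Θ := by
    intro c'
    obtain ⟨β, hβm, hβ⟩ := sieg_mem_Om hJ two hdet hu (hz c')
    have hinv := toolla1_inv_coe hJ two hu (hz c') β hβ
    have h1 := hconj θ hθ β hβm
    rw [hβ, hinv, toolla1_sieg_expand, ← neg_smul, toolla1_sieg_expand, hn] at h1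
    simp only [zero_div, neg_zero, zero_smul, smul_zero, add_zero] at h1
    rw [neg_smul, ← sub_eq_add_neg] at h1
    exact h1
  have h1 := hA 1
  have h2 := hA (-1)
  rw [one_smul] at h1
  rw [neg_smul, one_smul, sub_neg_eq_add, ← sub_eq_add_neg] at h2
  have h3 : (1 + ν) * θ * (1 - ν) + (1 - ν) * θ * (1 + ν) - (θ + θ) ∈ Θ :=
    Θ.sub_mem (Θ.add_mem h1 h2) (Θ.add_mem hθ hθ)
  have h4 : (1 + ν) * θ * (1 - ν) + (1 - ν) * θ * (1 + ν) - (θ + θ) = (-2 : F) • (ν * θ * ν) := by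
    simp only [add_mul, mul_add, sub_mul, mul_sub, one_mul, mul_one, Matrix.mul_assoc]
    module
  rw [h4] at h3
  exact h3

/-- the action of `ν θ ν`. -/
theorem toolla2_T_mulVec (J θ : Matrix ι ι F) (u n x : ι → F) :
    ((opm J u n - opm J n u) * θ * (opm J u n - opm J n u)) *ᵥ x
      = bf J n x • (bf J n (θ *ᵥ u) • u - bf J u (θ *ᵥ u) • n)
        - bf J u x • (bf J n (θ *ᵥ n) • u - bf J u (θ *ᵥ n) • n) := by
  have hν : ∀ y : ι → F, (opm J u n - opm J n u) *ᵥ y = bf J n y • u - bf J u y • n := by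
    intro y
    rw [Matrix.sub_mulVec, opm_mulVec, opm_mulVec]
  rw [← Matrix.mulVec_mulVec, ← Matrix.mulVec_mulVec, hν x, Matrix.mulVec_sub, Matrix.mulVec_smul,
    Matrix.mulVec_smul, Matrix.mulVec_sub, Matrix.mulVec_smul, Matrix.mulVec_smul, hν, hν]

/-- Lemma C: `Θ` contains no `c • v v^*`, `c ≠ 0`, `v ≠ 0` singular. -/
theorem toolla2_no_rank_one {J : Matrix ι ι F} (hJ : Jᵀ = J) (two : (2 : F) ≠ 0) (hdet : J.det ≠ 0)
    (hn : 3 ≤ Fintype.card ι) (Θ : AddSubgroup (Matrix ι ι F))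
    (hconj : ∀ θ ∈ Θ, ∀ α ∈ Om J, (α : Matrix ι ι F) * θ *
      ((α⁻¹ : Matrix.GeneralLinearGroup ι F) : Matrix ι ι F) ∈ Θ)
    (hcomm : ∀ θ ∈ Θ, ∀ θ' ∈ Θ, θ * θ' = θ' * θ)
    {v : ι → F} (hv0 : v ≠ 0) (hv : bf J v v = 0) {c : F} (hc : c ≠ 0) (hmem : c • opm J v v ∈ Θ) :
    False := by
  obtain ⟨v', hv', hvv'⟩ := toolg1_partner hJ two hdet hv0 hv
  obtain ⟨n, hvn, hv'n, hnn⟩ := toolla1_nonsing_perp hJ two hdet hn hv hv' hvv'
  obtain ⟨β, hβm, hβ⟩ := sieg_mem_Om hJ two hdet hv' hv'n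
  have hβiso : β ∈ Iso J := by
    rw [mem_Iso_iff_bf]
    intro x y
    rw [hβ]
    exact tssieg_iso hJ two hv' hv'n x y
  have h1 := hconj _ hmem β hβm
  rw [Matrix.mul_smul, Matrix.smul_mul, opm_conj β hβiso] at h1
  set v'' : ι → F := (β : Matrix ι ι F) *ᵥ v with hv''
  have hv''v : bf J v v'' = -(bf J n n / 2) := by
    have hv'v : bf J v' v = 1 := by rw [bf_symm hJ]; exact hvv'
    have hnv : bf J n v = 0 := by rw [bf_symm hJ]; exact hvn
    rw [hv'', hβ, sieg_mulVec]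
    simp only [bf_add_right, bf_sub_right, bf_smul_right, hv, hvv', hvn, hv'v, hnv]
    ring
  have hne : bf J v v'' ≠ 0 := by
    rw [hv''v]
    exact neg_ne_zero.mpr (div_ne_zero hnn two)
  have h2 := hcomm _ hmem _ h1
  rw [Matrix.smul_mul, Matrix.mul_smul, Matrix.smul_mul, Matrix.mul_smul, opm_mul_opm, opm_mul_opm] at h2
  have h3 := congrArg (fun X : Matrix ι ι F => X *ᵥ v) h2
  simp only [Matrix.smul_mulVec, opm_mulVec, hv, smul_zero, zero_smul] at h3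
  have hv''v' : bf J v'' v = bf J v v'' := bf_symm hJ v'' v
  rw [hv''v'] at h3
  -- h3 : c • c • bf J v v'' • bf J v v'' • v = 0 (in some form)
  have h4 : (c * c * (bf J v v'' * bf J v v'')) • v = 0 := by
    rw [← h3]
    simp only [smul_smul]
    congr 1
    ring
  rcases smul_eq_zero.mp h4 with h | h
  · have : c * c * (bf J v v'' * bf J v v'') ≠ 0 :=
      mul_ne_zero (mul_ne_zero hc hc) (mul_ne_zero hne hne)
    exact this h
  · exact hv0 h

end Cfsg.Agent.Lib.Helper28.TOO
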