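import Cfsg.Agent.Lib.Helper21.TOO.LA2a

/-!
# Project TOO, row LA2 (`alg_theta_ge5`), part b: the rank one element; `G` vanishes on totally singular pairs.
-/

set_option autoImplicit false
set_option linter.unusedSectionVars false
set_option linter.unusedVariables false

namespace Cfsg.Agent.Lib.Helper28.TOO

open Matrix
open scoped Kronecker
open Cfsg.Agent.Lib.helper7.TP Cfsg.Agent.Lib.Helper21.TS

variable {ι : Type*} [Fintype ι] [DecidableEq ι] {F : Type*} [Field F]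

/-- Lemma R: `v` singular with `f(v, θ v) ≠ 0`, `u` singular, `u ⊥ v`, independent: `4 f(v,θv) • v v^* ∈ Θ`. -/
theorem toolla2_rank_one {J : Matrix ι ι F} (hJ : Jᵀ = J) (two : (2 : F) ≠ 0) (hdet : J.det ≠ 0)
    (Θ : AddSubgroup (Matrix ι ι F))
    (hconj : ∀ θ ∈ Θ, ∀ α ∈ Om J, (α : Matrix ι ι F) * θ *
      ((α⁻¹ : Matrix.GeneralLinearGroup ι F) : Matrix ι ι F) ∈ Θ)
    {θ : Matrix ι ι F} (hθ : θ ∈ Θ) {u v : ι → F} (hu : bf J u u = 0) (hv : bf J v v = 0)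
    (huv : bf J u v = 0) (hind : ∀ c₁ c₂ : F, c₁ • u + c₂ • v = 0 → c₁ = 0 ∧ c₂ = 0) :
    (4 * bf J v (θ *ᵥ v)) • opm J v v ∈ Θ := by
  have hvu : bf J v u = 0 := by rw [bf_symm hJ]; exact huv
  obtain ⟨d₁, _, hud, hvd, _, _⟩ := toogh5a_dual hdet u v hind
  set n₁ : ι → F := d₁ - (bf J d₁ d₁ / 2) • u with hn₁
  have hdu : bf J d₁ u = 1 := by rw [bf_symm hJ]; exact hud
  have hdv : bf J d₁ v = 0 := by rw [bf_symm hJ]; exact hvd
  have hn₁n₁ : bf J n₁ n₁ = 0 := by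
    rw [hn₁]
    simp only [bf_sub_left, bf_sub_right, bf_smul_left, bf_smul_right, hu, hud, hdu]
    field_simp
    ring
  have hun₁ : bf J u n₁ = 1 := by
    rw [hn₁, bf_sub_right, bf_smul_right, hu, hud, mul_zero, sub_zero]
  have hvn₁ : bf J v n₁ = 0 := by
    rw [hn₁, bf_sub_right, bf_smul_right, hvu, hvd, mul_zero, sub_zero]
  have hn₁u : bf J n₁ u = 1 := by rw [bf_symm hJ]; exact hun₁
  have hn₁v : bf J n₁ v = 0 := by rw [bf_symm hJ]; exact hvn₁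
  obtain ⟨S, hS⟩ : ∃ S : Matrix ι ι F,
      S = (-2 : F) • ((opm J u v - opm J v u) * θ * (opm J u v - opm J v u)) := ⟨_, rfl⟩
  have hSm : S ∈ Θ := by rw [hS]; exact toolla2_T_mem hJ two hdet Θ hconj hθ hu huv hv
  have hSv : ∀ y : ι → F, S *ᵥ y = (-2 : F) • (bf J v y • (bf J v (θ *ᵥ u) • u - bf J u (θ *ᵥ u) • v)
        - bf J u y • (bf J v (θ *ᵥ v) • u - bf J u (θ *ᵥ v) • v)) := by
    intro y
    rw [hS, Matrix.smul_mulVec, toolla2_T_mulVec]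
  have h2 := toolla2_T_mem hJ two hdet Θ hconj hSm hv hvn₁ hn₁n₁
  have h3 : (opm J v n₁ - opm J n₁ v) * S * (opm J v n₁ - opm J n₁ v)
      = (-2 * bf J v (θ *ᵥ v)) • opm J v v := by
    rw [Matrix.ext_iff_mulVec]
    intro x
    have hR : ((-2 * bf J v (θ *ᵥ v)) • opm J v v) *ᵥ x = (-2 * bf J v (θ *ᵥ v)) • (bf J v x • v) := by
      rw [Matrix.smul_mulVec, opm_mulVec]
    rw [toolla2_T_mulVec, hR, hSv v, hSv n₁]
    simp only [hv, hvu, huv, hvn₁, hun₁, zero_smul, sub_zero, one_smul, zero_sub, smul_zero, bf_zero_right,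
      bf_smul_right, bf_neg_right, bf_sub_right, hn₁u, hn₁v, mul_zero, mul_one, sub_zero]
    module
  rw [h3, smul_smul] at h2
  have : (-2 : F) * (-2 * bf J v (θ *ᵥ v)) = 4 * bf J v (θ *ᵥ v) := by ring
  rw [this] at h2
  exact h2

/-- Claim A + B: `f(u, θ n) = 0` for singular orthogonal `u, n`. -/
theorem toolla2_ts_zero {J : Matrix ι ι F} (hJ : Jᵀ = J) (two : (2 : F) ≠ 0) (hdet : J.det ≠ 0)
    (hn : 3 ≤ Fintype.card ι) (Θ : AddSubgroup (Matrix ι ι F)) (hsa : ∀ θ ∈ Θ, SelfAdj J θ)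
    (hconj : ∀ θ ∈ Θ, ∀ α ∈ Om J, (α : Matrix ι ι F) * θ *
      ((α⁻¹ : Matrix.GeneralLinearGroup ι F) : Matrix ι ι F) ∈ Θ)
    (hcomm : ∀ θ ∈ Θ, ∀ θ' ∈ Θ, θ * θ' = θ' * θ)
    (hex : ∀ v : ι → F, v ≠ 0 → bf J v v = 0 → ∃ u : ι → F, bf J u u = 0 ∧ bf J u v = 0 ∧
      ∀ c₁ c₂ : F, c₁ • u + c₂ • v = 0 → c₁ = 0 ∧ c₂ = 0)
    {θ : Matrix ι ι F} (hθ : θ ∈ Θ) :
    (∀ v : ι → F, bf J v v = 0 → bf J v (θ *ᵥ v) = 0) ∧
      ∀ u n : ι → F, bf J u u = 0 → bf J n n = 0 → bf J u n = 0 → bf J u (θ *ᵥ n) = 0 := by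
  have hA : ∀ v : ι → F, bf J v v = 0 → bf J v (θ *ᵥ v) = 0 := by
    intro v hv
    by_cases hv0 : v = 0
    · subst hv0
      exact bf_zero_left J _
    by_contra hg
    obtain ⟨u, hu, huv, hind⟩ := hex v hv0 hv
    have h1 := toolla2_rank_one hJ two hdet Θ hconj hθ hu hv huv hind
    have h4 : (4 : F) ≠ 0 := by
      have : (4 : F) = 2 * 2 := by norm_num
      rw [this]
      exact mul_ne_zero two two
    exact toolla2_no_rank_one hJ two hdet hn Θ hconj hcomm hv0 hv (mul_ne_zero h4 hg) h1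
  refine ⟨hA, ?_⟩
  intro u n hu hn' hun
  have hsa' := (selfAdj_iff_bf J θ).mp (hsa θ hθ)
  have hnu : bf J n u = 0 := by rw [bf_symm hJ]; exact hun
  have hsing : bf J (u + n) (u + n) = 0 := by
    simp only [bf_add_left, bf_add_right, hu, hn', hun, hnu, add_zero]
  have h1 := hA (u + n) hsing
  simp only [Matrix.mulVec_add, bf_add_left, bf_add_right, hA u hu, hA n hn'] at h1
  have h2 : bf J n (θ *ᵥ u) = bf J u (θ *ᵥ n) := by
    rw [← hsa' u n, bf_symm hJ]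
  rw [h2] at h1
  have : (2 : F) * bf J u (θ *ᵥ n) = 0 := by linear_combination h1
  rcases mul_eq_zero.mp this with h | h
  · exact absurd h two
  · exact h

end Cfsg.Agent.Lib.Helper28.TOO
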