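import Cfsg.Agent.Lib.Helper21.TOO.LA2b

/-!
# Project TOO, row LA2 (`alg_theta_ge5`), part c: every singular vector is an eigenvector; `θ` is scalar
(core: the spanning statement LG6 `sing_span_perp` is a hypothesis `hspan`).
-/

set_option autoImplicit false
set_option linter.unusedSectionVars false
set_option linter.unusedVariables false

namespace Cfsg.Agent.Lib.Helper28.TOO

open Matrix
open scoped Kronecker
open Cfsg.Agent.Lib.helper7.TP Cfsg.Agent.Lib.Helper21.TS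

variable {ι : Type*} [Fintype ι] [DecidableEq ι] {F : Type*} [Field F]

/-- from the spanning statement: an independent singular vector in `v^⊥`. -/
theorem toolla2_exists_indep {J : Matrix ι ι F} (hJ : Jᵀ = J) (two : (2 : F) ≠ 0) (hdet : J.det ≠ 0)
    (hn : 3 ≤ Fintype.card ι)
    (hspan : ∀ w : ι → F, w ≠ 0 → bf J w w = 0 → ∀ n : ι → F, bf J w n = 0 →
      n ∈ Submodule.span F {w₁ : ι → F | bf J w₁ w₁ = 0 ∧ bf J w w₁ = 0})
    (v : ι → F) (hv0 : v ≠ 0) (hv : bf J v v = 0) :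
    ∃ u : ι → F, bf J u u = 0 ∧ bf J u v = 0 ∧
      ∀ c₁ c₂ : F, c₁ • u + c₂ • v = 0 → c₁ = 0 ∧ c₂ = 0 := by
  by_contra hcon
  push Not at hcon
  obtain ⟨v', hv', hvv'⟩ := toolg1_partner hJ two hdet hv0 hv
  obtain ⟨x, hx0, hvx, hv'x⟩ := toolla1_perp2 J hn v v'
  have hmem := hspan v hv0 hv x hvx
  have hall : ∀ y ∈ Submodule.span F {w₁ : ι → F | bf J w₁ w₁ = 0 ∧ bf J v w₁ = 0}, ∃ c : F, y = c • v := by
    intro y hy
    induction hy using Submodule.span_induction with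
    | mem w₁ hw₁ =>
      obtain ⟨h1, h2⟩ := hw₁
      have h2' : bf J w₁ v = 0 := by rw [bf_symm hJ]; exact h2
      obtain ⟨c₁, c₂, h3, h4⟩ := hcon w₁ h1 h2'
      by_cases hc₁ : c₁ = 0
      · exfalso
        have hc₂ : c₂ ≠ 0 := h4 hc₁
        rw [hc₁, zero_smul, zero_add] at h3
        rcases smul_eq_zero.mp h3 with h | h
        · exact hc₂ h
        · exact hv0 h
      · refine ⟨-(c₁⁻¹ * c₂), ?_⟩
        have : c₁ • w₁ = -(c₂ • v) := eq_neg_of_add_eq_zero_left h3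
        calc w₁ = c₁⁻¹ • (c₁ • w₁) := by rw [smul_smul, inv_mul_cancel₀ hc₁, one_smul]
          _ = -(c₁⁻¹ * c₂) • v := by rw [this, smul_neg, smul_smul, neg_smul]
    | zero => exact ⟨0, by rw [zero_smul]⟩
    | add y z _ _ hy hz =>
      obtain ⟨c, rfl⟩ := hy
      obtain ⟨c', rfl⟩ := hz
      exact ⟨c + c', by rw [add_smul]⟩
    | smul a y _ hy =>
      obtain ⟨c, rfl⟩ := hy
      exact ⟨a * c, by rw [smul_smul]⟩
  obtain ⟨c, hc⟩ := hall x hmem
  apply hx0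
  have : c = 0 := by
    have h1 := hv'x
    rw [hc, bf_smul_right, bf_symm hJ, hvv', mul_one] at h1
    exact h1
  rw [hc, this, zero_smul]

/-- every singular vector is an eigenvector. -/
theorem toolla2_eigen {J : Matrix ι ι F} (hJ : Jᵀ = J) (two : (2 : F) ≠ 0) (hdet : J.det ≠ 0)
    (hspan : ∀ w : ι → F, w ≠ 0 → bf J w w = 0 → ∀ n : ι → F, bf J w n = 0 →
      n ∈ Submodule.span F {w₁ : ι → F | bf J w₁ w₁ = 0 ∧ bf J w w₁ = 0})
    {θ : Matrix ι ι F} (hθ : SelfAdj J θ)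
    (hB : ∀ u n : ι → F, bf J u u = 0 → bf J n n = 0 → bf J u n = 0 → bf J u (θ *ᵥ n) = 0)
    {v v' : ι → F} (hv0 : v ≠ 0) (hv : bf J v v = 0) (hvv' : bf J v v' = 1) :
    θ *ᵥ v = bf J v' (θ *ᵥ v) • v := by
  have hall : ∀ y ∈ Submodule.span F {w₁ : ι → F | bf J w₁ w₁ = 0 ∧ bf J v w₁ = 0},
      bf J y (θ *ᵥ v) = 0 := by
    intro y hy
    induction hy using Submodule.span_induction with
    | mem w₁ hw₁ =>
      obtain ⟨h1, h2⟩ := hw₁
      have h2' : bf J w₁ v = 0 := by rw [bf_symm hJ]; exact h2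
      exact hB w₁ v h1 hv h2'
    | zero => exact bf_zero_left J _
    | add y z _ _ hy hz => rw [bf_add_left, hy, hz, add_zero]
    | smul a y _ hy => rw [bf_smul_left, hy, mul_zero]
  have hperp : ∀ n : ι → F, bf J v n = 0 → bf J n (θ *ᵥ v) = 0 := fun n hn =>
    hall n (hspan v hv0 hv n hn)
  have hz : θ *ᵥ v - bf J v' (θ *ᵥ v) • v = 0 := by
    apply toogh5a_eq_zero hdet
    intro x
    have h1 : bf J v (x - bf J v x • v') = 0 := by
      rw [bf_sub_right, bf_smul_right, hvv', mul_one, sub_self]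
    have h2 := hperp _ h1
    rw [bf_sub_left, bf_smul_left] at h2
    rw [bf_sub_left, bf_smul_left, bf_symm hJ (θ *ᵥ v) x]
    linear_combination h2
  exact sub_eq_zero.mp hz

/-- two singular vectors with eigenvalues: equal eigenvalues. -/
theorem toolla2_same {J : Matrix ι ι F} (hJ : Jᵀ = J) (two : (2 : F) ≠ 0) (hdet : J.det ≠ 0)
    {θ : Matrix ι ι F} (hθ : SelfAdj J θ)
    (heig : ∀ v : ι → F, v ≠ 0 → bf J v v = 0 → ∃ l : F, θ *ᵥ v = l • v)
    {e : ι → F} (he0 : e ≠ 0) (he : bf J e e = 0) {l : F} (hl : θ *ᵥ e = l • e)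
    (v : ι → F) (hv : bf J v v = 0) : θ *ᵥ v = l • v := by
  have hsa := (selfAdj_iff_bf J θ).mp hθ
  -- non-orthogonal case
  have hno : ∀ (e₁ : ι → F) (l₁ : F), θ *ᵥ e₁ = l₁ • e₁ → ∀ v₁ : ι → F, v₁ ≠ 0 → bf J v₁ v₁ = 0 →
      bf J e₁ v₁ ≠ 0 → θ *ᵥ v₁ = l₁ • v₁ := by
    intro e₁ l₁ hl₁ v₁ hv₁0 hv₁ hne
    obtain ⟨l', hl'⟩ := heig v₁ hv₁0 hv₁
    have h1 := hsa e₁ v₁
    rw [hl₁, hl', bf_smul_left, bf_smul_right] at h1
    have : l₁ = l' := by
      have h2 : (l₁ - l') * bf J e₁ v₁ = 0 := by linear_combination h1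
      rcases mul_eq_zero.mp h2 with h | h
      · exact sub_eq_zero.mp h
      · exact absurd h hne
    rw [hl', this]
  by_cases hv0 : v = 0
  · rw [hv0, Matrix.mulVec_zero, smul_zero]
  by_cases hev : bf J e v = 0
  · -- a singular vector non-orthogonal to both
    obtain ⟨y₁, hy₁⟩ := bf_nondeg' hdet he0
    obtain ⟨y₂, hy₂⟩ := bf_nondeg' hdet hv0
    obtain ⟨y, hye, hyv⟩ : ∃ y : ι → F, bf J y e ≠ 0 ∧ bf J y v ≠ 0 := by
      by_cases h1 : bf J y₁ v = 0
      · by_cases h2 : bf J y₂ e = 0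
        · exact ⟨y₁ + y₂, by rw [bf_add_left, h2, add_zero]; exact hy₁,
            by rw [bf_add_left, h1, zero_add]; exact hy₂⟩
        · exact ⟨y₂, h2, hy₂⟩
      · exact ⟨y₁, hy₁, h1⟩
    set u' : ι → F := y - (bf J y y / (2 * bf J y e)) • e with hu'
    have hey : bf J e y = bf J y e := bf_symm hJ e y
    have hu'u' : bf J u' u' = 0 := by
      rw [hu']
      simp only [bf_sub_left, bf_sub_right, bf_smul_left, bf_smul_right, he, hey]
      field_simp
      ring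
    have heu' : bf J e u' ≠ 0 := by
      rw [hu', bf_sub_right, bf_smul_right, he, mul_zero, sub_zero, hey]
      exact hye
    have hu'v : bf J u' v ≠ 0 := by
      rw [hu', bf_sub_left, bf_smul_left, hev, mul_zero, sub_zero]
      exact hyv
    have hu'0 : u' ≠ 0 := by
      intro h
      rw [h, bf_zero_right] at heu'
      exact heu' rfl
    have h1 := hno e l hl u' hu'0 hu'u' heu'
    exact hno u' l h1 v hv0 hv hu'v
  · exact hno e l hl v hv0 hv hev

/-- LA2, core: `a ≥ 5` (in the form: the spanning statement `hspan` and a hyperbolic pair). -/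
theorem toolla2_core {J : Matrix ι ι F} (hJ : Jᵀ = J) (two : (2 : F) ≠ 0) (hdet : J.det ≠ 0)
    (hn : 3 ≤ Fintype.card ι)
    (hspan : ∀ w : ι → F, w ≠ 0 → bf J w w = 0 → ∀ n : ι → F, bf J w n = 0 →
      n ∈ Submodule.span F {w₁ : ι → F | bf J w₁ w₁ = 0 ∧ bf J w w₁ = 0})
    (hhyp : ∃ e e' : ι → F, bf J e e = 0 ∧ bf J e' e' = 0 ∧ bf J e e' = 1)
    (Θ : AddSubgroup (Matrix ι ι F)) (hsa : ∀ θ ∈ Θ, SelfAdj J θ)
    (hconj : ∀ θ ∈ Θ, ∀ α ∈ Om J, (α : Matrix ι ι F) * θ *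
      ((α⁻¹ : Matrix.GeneralLinearGroup ι F) : Matrix ι ι F) ∈ Θ)
    (hcomm : ∀ θ ∈ Θ, ∀ θ' ∈ Θ, θ * θ' = θ' * θ) :
    ∀ θ ∈ Θ, ∃ c : F, θ = c • (1 : Matrix ι ι F) := by
  intro θ hθ
  have hθsa := hsa θ hθ
  have hex := toolla2_exists_indep hJ two hdet hn hspan
  obtain ⟨hA, hB⟩ := toolla2_ts_zero hJ two hdet hn Θ hsa hconj hcomm hex hθ
  have heig : ∀ v : ι → F, v ≠ 0 → bf J v v = 0 → ∃ l : F, θ *ᵥ v = l • v := by
    intro v hv0 hv
    obtain ⟨v', _, hvv'⟩ := toolg1_partner hJ two hdet hv0 hv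
    exact ⟨_, toolla2_eigen hJ two hdet hspan hθsa hB hv0 hv hvv'⟩
  obtain ⟨e, e', he, he', hee'⟩ := hhyp
  have he0 : e ≠ 0 := by
    intro h
    rw [h, bf_zero_left] at hee'
    exact zero_ne_one hee'
  have he'e : bf J e' e = 1 := by rw [bf_symm hJ]; exact hee'
  obtain ⟨l, hl⟩ := heig e he0 he
  have hsing : ∀ v : ι → F, bf J v v = 0 → θ *ᵥ v = l • v :=
    toolla2_same hJ two hdet hθsa heig he0 he hl
  refine ⟨l, ?_⟩
  rw [Matrix.ext_iff_mulVec]
  intro x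
  rw [Matrix.smul_mulVec, Matrix.one_mulVec]
  set xU : ι → F := x - bf J e' x • e - bf J e x • e' with hxU
  have x1 : bf J e xU = 0 := by
    rw [hxU]; simp only [bf_sub_right, bf_smul_right, he, hee']; ring
  have x2 : bf J e' xU = 0 := by
    rw [hxU]; simp only [bf_sub_right, bf_smul_right, he', he'e]; ring
  have x1' : bf J xU e = 0 := by rw [bf_symm hJ]; exact x1
  have x2' : bf J xU e' = 0 := by rw [bf_symm hJ]; exact x2
  set s₁ : ι → F := xU - (bf J xU xU / 2) • e + e' with hs₁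
  have hs₁s : bf J s₁ s₁ = 0 := by
    rw [hs₁]
    simp only [bf_add_left, bf_add_right, bf_sub_left, bf_sub_right, bf_smul_left, bf_smul_right, he,
      he', hee', he'e, x1, x2, x1', x2']
    field_simp
    ring
  have hx : x = (bf J e' x + bf J xU xU / 2) • e + (bf J e x - 1) • e' + s₁ := by
    rw [hs₁, hxU]
    module
  have h1 := hsing s₁ hs₁s
  have h2 := hsing e he
  have h3 := hsing e' he'
  conv_lhs => rw [hx]
  rw [Matrix.mulVec_add, Matrix.mulVec_add, Matrix.mulVec_smul, Matrix.mulVec_smul, h1, h2, h3]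
  conv_rhs => rw [hx]
  module

end Cfsg.Agent.Lib.Helper28.TOO
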