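import Cfsg.Agent.Lib.Helper28.TOO.Defs

/-!
# Project TOO, LOCAL block (rows `L*`, sub-designer helper21): definitions

`InQ J2 h w`: `h` lies in `Q_{A ⊗ w}` (it fixes `A ⊗ w` pointwise and acts trivially on `A ⊗ w^⊥ / A ⊗ w`), through pure tensors.
`Zc h φ n`: the class of `h` at `n`: for `h ∈ Q_{A ⊗ w}`, `φ ⬝ᵥ w = 1`, `n ⊥ w`: `h (x ⊗ n) = x ⊗ n + (Zc h φ n) x ⊗ w` (`Zc_spec`); linear in `n`.
`NTw J1 J2 M`: `M` contains no `1 + ξ ⊗ w w^*`, `ξ ≠ 0` skew-adjoint, `w ≠ 0` singular.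
`Unip J2 M`: `M ∩ Q_{A ⊗ w} = 1 ⊗ Q_w(B)` for every singular `w ≠ 0`.
`PureM J2 θ θs κ w w₁ = 1 + θ ⊗ w w₁^* - θs ⊗ w₁ w^* + κ ⊗ w w^*` (the "pure" elements of `Q_{A ⊗ w}`).
-/

set_option autoImplicit false

namespace Cfsg.Agent.Lib.Helper28.TOO

open Matrix
open scoped Kronecker
open Cfsg.Agent.Lib.helper7.TP Cfsg.Agent.Lib.Helper21.TS

variable {a b : ℕ} {F : Type*} [Field F]

/-- `h ∈ Q_{A ⊗ w}`, through pure tensors. -/
def InQ (J2 : Matrix (Fin b) (Fin b) F) (h : Matrix (Fin a × Fin b) (Fin a × Fin b) F)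
    (w : Fin b → F) : Prop :=
  (∀ x : Fin a → F, h *ᵥ ten x w = ten x w) ∧
    ∀ n : Fin b → F, bf J2 w n = 0 → ∀ x : Fin a → F, ∃ x' : Fin a → F,
      h *ᵥ ten x n = ten x n + ten x' w

/-- the class of `h` at `n`, computed with the covector `φ`. -/
def Zc (h : Matrix (Fin a × Fin b) (Fin a × Fin b) F) (φ n : Fin b → F) :
    Matrix (Fin a) (Fin a) F :=
  Matrix.of fun i i' => ctr φ (h *ᵥ ten (Pi.single i' (1 : F)) n - ten (Pi.single i' (1 : F)) n) i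

/-- `M` contains no long root element `1 + ξ ⊗ w w^*` of `B`-type. -/
def NTw (J1 : Matrix (Fin a) (Fin a) F) (J2 : Matrix (Fin b) (Fin b) F)
    (M : Subgroup (Matrix.GeneralLinearGroup (Fin a × Fin b) F)) : Prop :=
  ∀ (ξ : Matrix (Fin a) (Fin a) F) (w : Fin b → F), SkewAdj J1 ξ → w ≠ 0 → bf J2 w w = 0 →
    InM M (XBm J2 ξ w) → ξ = 0

/-- UNIP: `M ∩ Q_{A ⊗ w} = 1 ⊗ Q_w(B)`. -/
def Unip (J2 : Matrix (Fin b) (Fin b) F)
    (M : Subgroup (Matrix.GeneralLinearGroup (Fin a × Fin b) F)) : Prop :=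
  ∀ h ∈ M, ∀ w : Fin b → F, w ≠ 0 → bf J2 w w = 0 →
    InQ J2 (h : Matrix (Fin a × Fin b) (Fin a × Fin b) F) w →
    ∃ z : Fin b → F, bf J2 w z = 0 ∧
      (h : Matrix (Fin a × Fin b) (Fin a × Fin b) F) = (1 : Matrix (Fin a) (Fin a) F) ⊗ₖ sieg J2 w z

/-- the pure elements `1 + θ ⊗ w w₁^* - θs ⊗ w₁ w^* + κ ⊗ w w^*` of `Q_{A ⊗ w}`
(`θs` the `J1`-adjoint of `θ`, `κ` skew-adjoint, `w, w₁` singular and orthogonal: then it lies in `O(V)`). -/
def PureM (J2 : Matrix (Fin b) (Fin b) F) (θ θs κ : Matrix (Fin a) (Fin a) F) (w w₁ : Fin b → F) :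
    Matrix (Fin a × Fin b) (Fin a × Fin b) F :=
  1 + θ ⊗ₖ opm J2 w w₁ - θs ⊗ₖ opm J2 w₁ w + κ ⊗ₖ opm J2 w w

theorem ctr_sub' (ψ : Fin b → F) (v v' : Fin a × Fin b → F) :
    ctr ψ (v - v') = ctr ψ v - ctr ψ v' := by
  funext i
  simp only [ctr, Pi.sub_apply, sub_mul, Finset.sum_sub_distrib]

theorem Zc_mulVec (h : Matrix (Fin a × Fin b) (Fin a × Fin b) F) (φ n : Fin b → F) (x : Fin a → F) :
    Zc h φ n *ᵥ x = ctr φ (h *ᵥ ten x n - ten x n) := by
  funext i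
  simp only [Matrix.mulVec, dotProduct, Zc, Matrix.of_apply]
  have key : ∀ y : Fin a → F, ctr φ (h *ᵥ ten y n - ten y n) i
      = ∑ i', ctr φ (h *ᵥ ten (Pi.single i' (1 : F)) n - ten (Pi.single i' (1 : F)) n) i * y i' := by
    intro y
    have hten : ten y n = ∑ i', y i' • ten (Pi.single i' (1 : F)) n := by
      funext q
      simp only [ten, Finset.sum_apply, Pi.smul_apply, smul_eq_mul, Pi.single_apply]
      simp
    have e1 : h *ᵥ ten y n - ten y n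
        = ∑ i', y i' • (h *ᵥ ten (Pi.single i' (1 : F)) n - ten (Pi.single i' (1 : F)) n) := by
      conv_lhs => rw [hten]
      rw [Matrix.mulVec_sum]
      simp only [Matrix.mulVec_smul, smul_sub, Finset.sum_sub_distrib]
    rw [e1]
    have e2 : ∀ (s : Finset (Fin a)) (g : Fin a → (Fin a × Fin b → F)),
        ctr φ (∑ i' ∈ s, g i') = ∑ i' ∈ s, ctr φ (g i') := by
      intro s g
      induction s using Finset.induction_on with
      | empty =>
        funext k; simp [ctr]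
      | insert x s hx ih =>
        rw [Finset.sum_insert hx, Finset.sum_insert hx, ctr_add, ih]
    rw [e2]
    simp only [ctr_smul, Finset.sum_apply, Pi.smul_apply, smul_eq_mul]
    apply Finset.sum_congr rfl
    intro i' _
    ring
  rw [key x]

theorem Zc_spec {J2 : Matrix (Fin b) (Fin b) F} {h : Matrix (Fin a × Fin b) (Fin a × Fin b) F}
    {w φ : Fin b → F} (hQ : InQ J2 h w) (hφ : φ ⬝ᵥ w = 1) {n : Fin b → F} (hn : bf J2 w n = 0)
    (x : Fin a → F) : h *ᵥ ten x n = ten x n + ten (Zc h φ n *ᵥ x) w := by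
  obtain ⟨x', hx'⟩ := hQ.2 n hn x
  rw [Zc_mulVec, hx', add_sub_cancel_left, ctr_ten, hφ, one_smul]

theorem Zc_add_right (h : Matrix (Fin a × Fin b) (Fin a × Fin b) F) (φ n n' : Fin b → F) :
    Zc h φ (n + n') = Zc h φ n + Zc h φ n' := by
  ext i i'
  simp only [Zc, Matrix.of_apply, Matrix.add_apply, ten_add_right, Matrix.mulVec_add]
  rw [show h *ᵥ ten (Pi.single i' (1 : F)) n + h *ᵥ ten (Pi.single i' (1 : F)) n' -
      (ten (Pi.single i' (1 : F)) n + ten (Pi.single i' (1 : F)) n')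
      = (h *ᵥ ten (Pi.single i' (1 : F)) n - ten (Pi.single i' (1 : F)) n) +
        (h *ᵥ ten (Pi.single i' (1 : F)) n' - ten (Pi.single i' (1 : F)) n') by abel, ctr_add]
  rfl

theorem Zc_smul_right (h : Matrix (Fin a × Fin b) (Fin a × Fin b) F) (φ : Fin b → F) (c : F)
    (n : Fin b → F) : Zc h φ (c • n) = c • Zc h φ n := by
  ext i i'
  simp only [Zc, Matrix.of_apply, Matrix.smul_apply, ten_smul_right, Matrix.mulVec_smul]
  rw [← smul_sub, ctr_smul]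
  rfl

theorem Zc_zero_right (h : Matrix (Fin a × Fin b) (Fin a × Fin b) F) (φ : Fin b → F) :
    Zc h φ 0 = 0 := by
  have := Zc_smul_right h φ (0 : F) 0
  simpa using this

/-- the class at `w` itself vanishes. -/
theorem Zc_self {J2 : Matrix (Fin b) (Fin b) F} {h : Matrix (Fin a × Fin b) (Fin a × Fin b) F}
    {w : Fin b → F} (hQ : InQ J2 h w) (φ : Fin b → F) : Zc h φ w = 0 := by
  ext i i'
  simp only [Zc, Matrix.of_apply, hQ.1, sub_self, Matrix.zero_apply]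
  simp [ctr]

end Cfsg.Agent.Lib.Helper28.TOO
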